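import Mathlib
import Cfsg.Agent.Lib.OL5.Defs
import Cfsg.Agent.Lib.FB.Loc
import Cfsg.Agent.S0205

set_option autoImplicit false

namespace OL5

open H86 (Cen Nor)
open Subgroup (zpowers center centralizer)

variable {X : Type*} [Group X] [Finite X] {V E N : Subgroup X}

omit [Finite X] in
theorem ec_cen (h2 : ∀ v ∈ V, v ^ 2 = 1) : V ≤ Cen V := fun a ha b hb => by
  have i : ∀ v ∈ V, v⁻¹ = v := fun v hv => inv_eq_of_mul_eq_one_right (by rw [← pow_two, h2 v hv])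
  rw [← i _ (mul_mem hb ha), mul_inv_rev, i a ha, i b hb]

theorem card_fix_modEq {p : ℕ} (hp : p.Prime) (hN : IsPGroup p N) (hV : N ≤ Nor V) :
    Nat.card V ≡ Nat.card (V ⊓ Cen N : Subgroup X) [MOD p] := by
  haveI := Fact.mk hp
  letI := MulDistribMulAction.compHom V (V.normalizerMonoidHom.comp (Subgroup.inclusion hV))
  have sm : ∀ (t : N) (a : V), ((t • a : V) : X) = t * a * (t : X)⁻¹ := fun t a => rfl
  have := hN.card_modEq_card_fixedPoints V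
  rwa [Nat.card_congr (α := MulAction.fixedPoints N V) (β := (V ⊓ Cen N : Subgroup X))
    ⟨fun a => ⟨a.1, a.1.2, fun n hn => mul_inv_eq_iff_eq_mul.1 (congrArg Subtype.val (a.2 ⟨n, hn⟩))⟩,
      fun a => ⟨⟨a.1, a.2.1⟩, fun n => Subtype.ext (mul_inv_eq_iff_eq_mul.2 (a.2.2 n n.2))⟩,
      fun _ => rfl, fun _ => rfl⟩] at this

theorem exists_normal_p (ho : Odd (Nat.card E)) (h1 : E ≠ ⊥) :
    ∃ (p : ℕ) (N : Subgroup X), p.Prime ∧ Odd p ∧ N ≤ E ∧ N ≠ ⊥ ∧ IsPGroup p N ∧ E ≤ Nor N := by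
  haveI := Cfsg.Agent.S0205.result ho
  haveI := (Subgroup.nontrivial_iff_ne_bot E).2 h1
  obtain ⟨p, hp, h⟩ := H1.exists_pCore_ne_bot_of_isSolvable (G := E)
  haveI := Fact.mk hp
  have hb : Cfsg.pCoreOf p E ≠ ⊥ := fun e => h ((Subgroup.map_eq_bot_iff_of_injective _ E.subtype_injective).1 e)
  exact ⟨p, _, hp, ho.of_dvd_nat (H68.dvd_card_of_isPGroup_of_ne_bot (H1.isPGroup_pCoreOf E) hb (H1.pCoreOf_le E)),
    H1.pCoreOf_le E, hb, H1.isPGroup_pCoreOf E, H1.le_normalizer_pCoreOf E⟩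

theorem exists_compl (h2 : ∀ v ∈ V, v ^ 2 = 1) (hE : E ≤ Nor V) (ho : Odd (Nat.card E))
    (hN : N ≤ E) (hEN : E ≤ Nor N) :
    ∃ W ≤ V, E ≤ Nor W ∧ E ≤ Nor (V ⊓ Cen N : Subgroup X) ∧ (V ⊓ Cen N) ⊓ W = ⊥ ∧
      (V ⊓ Cen N) ⊔ W = V ∧ Nat.card (V ⊓ Cen N : Subgroup X) * Nat.card W = Nat.card V := by
  have ab : IsMulCommutative V := ⟨⟨fun a b => Subtype.ext (ec_cen h2 b.2 a a.2)⟩⟩
  have cop : (Nat.card N).Coprime (Nat.card V) := H2.coprime_card_of_isPGroup (p := 2)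
    (Nat.coprime_two_right.2 (ho.of_dvd_nat (Subgroup.card_dvd_of_le hN))) (H3.isPGroup_of_pow_eq_one h2)
  refine ⟨⁅V, N⁆, H2.commutator_le_of_le_normalizer (hN.trans hE), H2.le_normalizer_commutator hE hEN,
    H2.le_normalizer_inf hE (H2.le_normalizer_centralizer hEN), ?_, ?_, ?_⟩
  · rw [inf_comm, eq_bot_iff, ← H2.commutator_inf_centralizer_eq_bot ab (hN.trans hE) cop]
    exact inf_le_inf_left _ inf_le_right
  · rw [sup_comm]
    exact H2.commutator_sup_centralizer (hN.trans hE) cop (Or.inr (H2.isSolvable_of_isMulCommutative ab))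
  · rw [mul_comm]; exact (H2.card_eq_card_centralizer_mul_card_commutator ab (hN.trans hE) cop).symm

theorem stab_mul {U W : Subgroup X} (hU : E ≤ Nor U) (hW : E ≤ Nor W) (hd : U ⊓ W = ⊥) {u w : X}
    (hu : u ∈ U) (hw : w ∈ W) :
    E ⊓ Cen (zpowers (u * w)) ≤ Cen (zpowers u) ⊓ Cen (zpowers w) := by
  rintro t ⟨h1, h2⟩
  have e : u * w * t = t * (u * w) := h2 _ (Subgroup.mem_zpowers _)
  have e1 : u⁻¹ * (t * u * t⁻¹) = w * (t * w * t⁻¹)⁻¹ := by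
    calc _ = u⁻¹ * (t * (u * w)) * w⁻¹ * t⁻¹ := by group
      _ = _ := by rw [← e]; group
  have m : u⁻¹ * (t * u * t⁻¹) = 1 := Subgroup.mem_bot.1 (hd.le ⟨U.mul_mem (U.inv_mem hu) (H81.FB.cjm (hU h1) hu),
    e1 ▸ W.mul_mem hw (W.inv_mem (H81.FB.cjm (hW h1) hw))⟩)
  rw [Cen, Cen, H81.FB.c_zp, H81.FB.c_zp]
  exact ⟨H81.FB.cm1.2 (mul_inv_eq_iff_eq_mul.1 (inv_mul_eq_one.1 m).symm),
    H81.FB.cm1.2 (mul_inv_eq_iff_eq_mul.1 (mul_inv_eq_one.1 (e1 ▸ m)).symm)⟩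

theorem isPGroup_of_sq (h2 : ∀ v ∈ V, v ^ 2 = 1) : IsPGroup 2 V := by
  exact H3.isPGroup_of_pow_eq_one h2

theorem le_Cen_of_sq (h2 : ∀ v ∈ V, v ^ 2 = 1) : V ≤ Cen V := by
  exact ec_cen h2

end OL5
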