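import Mathlib
import Cfsg.Agent.Lib.OL5.Defs
import Cfsg.Agent.Lib.FB.Loc

set_option autoImplicit false

namespace OL5

open H86 (Cen Nor)
open Subgroup (zpowers center centralizer)

variable {G : Type*} [Group G] [Finite G] {A F T Z : Subgroup G} {s : G}

open scoped commutatorElement

theorem ga_cop (hA : IsPGroup 2 A) (ho : ¬ 2 ∣ orderOf s) : (Nat.card (zpowers s)).Coprime (Nat.card A) :=
  H2.coprime_card_of_isPGroup (by
    rw [Nat.card_zpowers]; exact ((Nat.Prime.coprime_iff_not_dvd Nat.prime_two).2 ho).symm) hA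

omit [Finite G] in
theorem ga_ab (hab : A ≤ Cen A) : IsMulCommutative A := ⟨⟨fun a b => Subtype.ext (hab b.2 a a.2)⟩⟩

theorem fix_of_sq (ho : ¬ 2 ∣ orderOf s) {x : G} (h : s ^ 2 * x = x * s ^ 2) : s * x * s⁻¹ = x := by
  have : s ∈ centralizer {x} := H81.FB.mem_of_pow ((Nat.Prime.coprime_iff_not_dvd Nat.prime_two).2 ho)
    (H81.FB.cm1.2 h)
  rw [H81.FB.cm1.1 this, mul_inv_cancel_right]

theorem cen_of_omega (hA : IsPGroup 2 A) (hab : A ≤ Cen A) (hs : s ∈ Nor A) (ho : ¬ 2 ∣ orderOf s)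
    (h : ∀ x ∈ A, x ^ 2 = 1 → s * x * s⁻¹ = x) : s ∈ Cen A := by
  refine H2.le_centralizer_of_prime_order (ga_ab hab) (Subgroup.zpowers_le.2 hs) (ga_cop hA ho)
    (fun v hv hp => ?_) (Subgroup.mem_zpowers s)
  obtain ⟨k, hk⟩ := H81.FB.pe_of_mem hA hv
  have e := (Nat.prime_dvd_prime_iff_eq hp Nat.prime_two).1 (hp.dvd_of_dvd_pow (orderOf_dvd_of_pow_eq_one hk))
  rw [H81.FB.c_zp, H81.FB.cm1]
  exact (mul_inv_eq_iff_eq_mul.1 (h v hv (e ▸ pow_orderOf_eq_one v))).symm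

theorem cen_of_frattini (hA : IsPGroup 2 A) (hab : A ≤ Cen A) (hs : s ∈ Nor A)
    (ho : ¬ 2 ∣ orderOf s) (h : ∀ x ∈ A, ∃ y ∈ A, s * x * s⁻¹ = x * y ^ 2) : s ∈ Cen A := by
  refine H2.le_centralizer_of_commutator_le_frattini (Subgroup.zpowers_le.2 hs)
    ((ga_cop hA ho).coprime_dvd_right (Subgroup.card_subgroup_dvd_card _)) (H81.FB.comm_le
    (H1.normalizer_le_normalizer_map_subtype_of_characteristic A _ hs) fun x hx => ?_) (Subgroup.mem_zpowers s)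
  obtain ⟨y, hy, e⟩ := h x⁻¹ (inv_mem hx)
  rw [show ⁅x, s⁆ = x * (s * x⁻¹ * s⁻¹) by rw [commutatorElement_def]; group, e, mul_inv_cancel_left]
  exact H5.pow_mem_map_frattini hA hy

theorem cen_of_chain (hZ : IsPGroup 2 Z) (ho : ¬ 2 ∣ orderOf s) (h1 : s ∈ Cen Z)
    (h2 : ∀ x ∈ A, ∃ z ∈ Z, s * x * s⁻¹ = x * z) : s ∈ Cen A := by
  refine H2.le_centralizer_of_commutator_le (ga_cop hZ ho) (H81.FB.comm_le (H86.Cen_le_Nor Z h1)
    fun x hx => ?_) (Subgroup.zpowers_le.2 h1) (Subgroup.mem_zpowers s)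
  obtain ⟨y, hy, e⟩ := h2 x⁻¹ (inv_mem hx)
  rwa [show ⁅x, s⁆ = x * (s * x⁻¹ * s⁻¹) by rw [commutatorElement_def]; group, e, mul_inv_cancel_left]

theorem cen_of_index_two (hA : IsPGroup 2 A) (hF : F ≤ A) (hs : s ∈ Nor A) (ho : ¬ 2 ∣ orderOf s)
    (h1 : s ∈ Cen F) (hi : Nat.card A ≤ 2 * Nat.card F) : s ∈ Cen A := by
  refine cen_of_chain (hA.to_le hF) ho h1 fun x hx => ⟨x⁻¹ * (s * x * s⁻¹), ?_, by group⟩
  have h3 := H1.card_mul_relIndex_of_le hF
  have h4 : F.relIndex A ≤ 2 := Nat.le_of_mul_le_mul_left (by rw [h3, mul_comm]; exact hi) Nat.card_pos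
  have h5 : F.relIndex A ≠ 0 := Subgroup.index_ne_zero_of_finite
  have hx' := H81.FB.cjm hs hx
  by_cases e : F.relIndex A = 1
  · exact Subgroup.relIndex_eq_one.1 e (mul_mem (inv_mem hx) hx')
  have := (Subgroup.mul_mem_iff_of_index_two (H := F.subgroupOf A) (show F.relIndex A = 2 by omega)
    (a := ⟨x, hx⟩⁻¹) (b := ⟨_, hx'⟩)).2 (by
      rw [inv_mem_iff]; exact (Subgroup.mem_normalizer_iff.1 (H86.Cen_le_Nor F h1) x))
  exact this

theorem relIndex_dvd_three (hA : IsPGroup 2 A) (hT : T ≤ Nor A) (ho : ¬ 2 ∣ (Cen A).relIndex T)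
    (hF : F ≤ A) (hTF : T ≤ Cen F) (hi : Nat.card A ≤ 4 * Nat.card F) :
    (Cen A).relIndex T ∣ 3 := by
  letI := MulDistribMulAction.compHom A (A.normalizerMonoidHom.comp (Subgroup.inclusion hT))
  have sm : ∀ (t : T) (a : A), ((t • a : A) : G) = t * a * (t : G)⁻¹ := fun t a => rfl
  haveI : MulAction.QuotientAction T (F.subgroupOf A) := ⟨fun t a a' h => by
    rw [← smul_inv', ← smul_mul', Subgroup.mem_subgroupOf, sm]
    exact H81.FB.cjm (H86.Cen_le_Nor F (hTF t.2)) h⟩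
  haveI : ((Cen A).subgroupOf T).Normal :=
    Subgroup.normal_subgroupOf_of_le_normalizer (hT.trans (H86.Nor_le_Nor_Cen A))
  let φ := MulAction.toPermHom T (A ⧸ F.subgroupOf A)
  have hk : φ.ker ≤ (Cen A).subgroupOf T := fun t ht => by
    obtain ⟨a, ha, b, hb, e, pa, cb⟩ := H81.FB.split Nat.prime_two t
    rw [e]
    refine mul_mem (H81.FB.mem_of_pow (pa.cop ((Nat.Prime.coprime_iff_not_dvd Nat.prime_two).2 ho).symm)
      (Subgroup.pow_index_mem _ a)) (cen_of_chain (hA.to_le hF) ?_ (hTF b.2) fun x hx => ?_)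
    · rw [Subgroup.subtype_apply, Subgroup.orderOf_coe]; exact (Nat.Prime.coprime_iff_not_dvd Nat.prime_two).1 cb.symm
    have h1 : b • ((⟨x, hx⟩ : A) : A ⧸ F.subgroupOf A) = (⟨x, hx⟩ : A) :=
      DFunLike.congr_fun (MonoidHom.mem_ker.1 (Subgroup.zpowers_le.2 ht hb))
        ((⟨x, hx⟩ : A) : A ⧸ F.subgroupOf A)
    have h2 : x⁻¹ * (b * x * (b : G)⁻¹) ∈ F := Subgroup.mem_subgroupOf.1 (QuotientGroup.eq.1 h1.symm)
    exact ⟨_, h2, (mul_inv_cancel_left _ _).symm⟩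
  have h1 : (Cen A).relIndex T ∣ (F.relIndex A).factorial := by
    refine (Subgroup.index_dvd_of_le hk).trans ?_
    rw [Subgroup.index_ker]
    refine (Subgroup.card_subgroup_dvd_card _).trans ?_
    rw [Nat.card_perm]; rfl
  have h4 : F.relIndex A ≤ 4 := Nat.le_of_mul_le_mul_left
    (by rw [H1.card_mul_relIndex_of_le hF, mul_comm]; exact hi) Nat.card_pos
  exact Nat.Coprime.dvd_of_dvd_mul_left (((Nat.Prime.coprime_iff_not_dvd Nat.prime_two).2 ho).symm.pow_right 3)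
    (h1.trans (Nat.factorial_dvd_factorial h4))

theorem card_dvd_three (hA : IsPGroup 2 A) (hT : T ≤ Nor A) (ho : Odd (Nat.card T))
    (hf : T ⊓ Cen A = ⊥) (hF : F ≤ A) (hTF : T ≤ Cen F) (hi : Nat.card A ≤ 4 * Nat.card F) :
    Nat.card T ∣ 3 := by
  have e := H1.card_inf_mul_relIndex (Cen A) T
  rw [inf_comm, hf, Subgroup.card_bot, one_mul] at e
  rw [← e] at ho ⊢
  exact relIndex_dvd_three hA hT ho.not_two_dvd_nat hF hTF hi

end OL5
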