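import Mathlib
import Cfsg.Agent.Lib.OL5.GA
import Cfsg.Agent.Lib.OL5.EC

set_option autoImplicit false

namespace OL5

open H86 (Cen Nor)
open Subgroup (zpowers center centralizer)

variable {X : Type*} [Group X] [Finite X] {V E : Subgroup X}

theorem e16_n1 {r c : ℕ} (hp : r.Prime) (a5 : Odd r) (a1 : 16 ≡ c [MOD r]) (a2 : 1 < c) (a3 : c ∣ 16)
    (a4 : c < 16) : r = 3 ∨ (r = 7 ∧ c = 2) := by
  have a6 := (Nat.modEq_iff_dvd' a4.le).1 a1.symm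
  have a7 : r ≤ 14 := (Nat.le_of_dvd (by omega) a6).trans (by omega)
  have : c = 2 ∨ c = 4 ∨ c = 8 := by interval_cases c <;> omega
  rcases this with rfl | rfl | rfl <;> interval_cases r <;> simp_all (config := {decide := true})

theorem e16_n2 {p i j : ℕ} (h : p = 3 ∨ p = 5) (n48 : p ^ i ≤ 3 * 16) (a3 : p ^ j ≤ p ^ i)
    (a1 : p ^ i ≡ p ^ j [MOD 7]) : p ^ i ≤ p ^ j := by
  have b1 : j ≤ i := (Nat.pow_le_pow_iff_right (by omega)).1 a3
  have b2 : i < 4 := (Nat.pow_lt_pow_iff_right (show 1 < p by omega)).1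
    (n48.trans_lt (lt_of_lt_of_le (by norm_num) (Nat.pow_le_pow_left (show 3 ≤ p by omega) 4)))
  rcases h with rfl | rfl <;> interval_cases i <;> interval_cases j <;> simp_all (config := {decide := true})

theorem e16_d3 (h2 : ∀ v ∈ V, v ^ 2 = 1) (hE : E ≤ Nor V) (ho : Odd (Nat.card E)) (hf : E ⊓ Cen V = ⊥)
    {T F : Subgroup X} (hT : T ≤ E) (hF : F ≤ V) (h : T ≤ Cen F) (hi : Nat.card V ≤ 4 * Nat.card F) :
    Nat.card T ∣ 3 :=
  card_dvd_three (isPGroup_of_sq h2) (hT.trans hE) (ho.of_dvd_nat (Subgroup.card_dvd_of_le hT))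
    (eq_bot_iff.2 (hf ▸ inf_le_inf_right _ hT)) hF h hi

theorem e16_two {u : X} (h : u ^ 2 = 1) (h1 : u ≠ 1) : Nat.card (zpowers u) = 2 := by
  rw [Nat.card_zpowers, orderOf_eq_prime h h1]

theorem e16_idx {N : Subgroup X} (hN : N ≤ Nor V) {u : X} (hu : u ∈ V) :
    (Cen (zpowers u)).relIndex N ≤ Nat.card V := by
  refine Nat.card_le_card_of_injective (fun a : N ⧸ (Cen (zpowers u)).subgroupOf N =>
    (⟨a.out * u * (a.out : X)⁻¹, H81.FB.cjm (hN a.out.2) hu⟩ : V)) fun a b e => ?_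
  have e' : (a.out : X) * u * (a.out : X)⁻¹ = b.out * u * (b.out : X)⁻¹ := congrArg Subtype.val e
  rw [← a.out_eq, ← b.out_eq]
  refine QuotientGroup.eq.2 (Subgroup.mem_subgroupOf.2 ?_)
  refine (H81.FB.c_zp u).ge (H81.FB.cm1.2 ?_)
  push_cast
  calc _ = (a.out : X)⁻¹ * (b.out * u * (b.out : X)⁻¹) * b.out := by group
    _ = _ := by rw [← e']; group

theorem e16_ne (hf : E ⊓ Cen V = ⊥) {N : Subgroup X} (hN : N ≤ E) (h1 : N ≠ ⊥) : V ⊓ Cen N ≠ V := fun e =>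
  h1 (eq_bot_iff.2 (hf ▸ le_inf hN (Subgroup.le_centralizer_iff.1 (inf_eq_left.1 e))))

theorem stab16 (h2 : ∀ v ∈ V, v ^ 2 = 1) (hc : Nat.card V ≤ 16) (hE : E ≤ Nor V)
    (ho : Odd (Nat.card E)) (hf : E ⊓ Cen V = ⊥) :
    ∃ u ∈ V, Nat.card (E ⊓ Cen (zpowers u) : Subgroup X) ∣ 3 := by
  have d3 := @e16_d3 X _ _ V E h2 hE ho hf
  by_contra hn
  push Not at hn
  have hE1 : E ≠ ⊥ := fun e => hn 1 (one_mem _) (by rw [e, bot_inf_eq, Subgroup.card_bot]; exact one_dvd _)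
  have hV1 : V ≠ ⊥ := fun e => hE1 (by rw [← hf, e, H86.Cen_bot, inf_top_eq])
  obtain ⟨⟨u, hu⟩, u1⟩ := Subgroup.ne_bot_iff_exists_ne_one.1 hV1
  have u1 : u ≠ 1 := fun e => u1 (Subtype.ext e)
  have c16 : Nat.card V = 16 := by
    have h8 : ¬ Nat.card V ≤ 8 := fun h => hn u hu (d3 inf_le_left (Subgroup.zpowers_le.2 hu) inf_le_right
      (by rwa [e16_two (h2 u hu) u1]))
    obtain ⟨k, hk⟩ := IsPGroup.iff_card.1 (isPGroup_of_sq h2)
    rw [hk] at h8 hc ⊢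
    have : k ≤ 4 := (Nat.pow_le_pow_iff_right (by norm_num)).1 (hc : 2 ^ k ≤ 2 ^ 4)
    interval_cases k <;> omega
  have big : ∀ T : Subgroup X, ∀ v ∈ V, v ≠ 1 → T ≤ Cen (zpowers v) → 1 < Nat.card (V ⊓ Cen T : Subgroup X) :=
    fun T v hv v1 h => (Subgroup.one_lt_card_iff_ne_bot _).2 fun e => v1 (Subgroup.mem_bot.1
      (e.le ⟨hv, Subgroup.le_centralizer_iff.1 h (Subgroup.mem_zpowers v)⟩))
  have f0 : ∀ v ∈ V, v ≠ 1 → ∀ y ∈ E ⊓ Cen (zpowers v), (orderOf y).Prime → orderOf y = 3 ∨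
      (orderOf y = 7 ∧ Nat.card (V ⊓ Cen (zpowers y) : Subgroup X) = 2) := fun v hv v1 y hy hp => by
    have a1 := card_fix_modEq hp (H81.FB.Pe.zp ⟨1, by rw [pow_one, pow_orderOf_eq_one]⟩)
      (Subgroup.zpowers_le.2 (hE hy.1))
    have a2 := big _ v hv v1 (Subgroup.zpowers_le.2 hy.2)
    have a3 := Subgroup.card_dvd_of_le (inf_le_left : V ⊓ Cen (zpowers y) ≤ V)
    have a4 := H1.card_lt_of_lt (lt_of_le_of_ne inf_le_left (e16_ne hf (Subgroup.zpowers_le.2 hy.1)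
      (Subgroup.zpowers_ne_bot.2 fun e => by simp [e, Nat.not_prime_one] at hp)))
    have a5 := ho.of_dvd_nat (H1.orderOf_dvd_card_of_mem hy.1)
    rw [c16] at a1 a3 a4
    exact e16_n1 hp a5 a1 a2 a3 a4
  have three : ∀ v ∈ V, v ≠ 1 → ∀ T ≤ E ⊓ Cen (zpowers v), IsPGroup 3 T → Nat.card T ∣ 3 := fun v hv v1 T hT h3 => by
    have a1 := card_fix_modEq Nat.prime_three h3 (hT.trans (inf_le_left.trans hE))
    have a2 := big _ v hv v1 (hT.trans inf_le_right)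
    refine d3 (hT.trans inf_le_left) (inf_le_left : V ⊓ Cen T ≤ V) (Subgroup.le_centralizer_iff.1 inf_le_right) ?_
    rw [c16] at a1 ⊢; unfold Nat.ModEq at a1; omega
  obtain ⟨p, N, hp, po, hN, N1, pN, nN⟩ := exists_normal_p ho hE1
  haveI := Fact.mk hp
  obtain ⟨W, w1, w2, w3, w4, w5, -⟩ := exists_compl h2 hE ho hN nN
  by_cases hF : V ⊓ Cen N = ⊥
  swap
  · obtain ⟨⟨f, hf'⟩, f1⟩ := Subgroup.ne_bot_iff_exists_ne_one.1 hF
    obtain ⟨⟨w, hw⟩, w6⟩ := Subgroup.ne_bot_iff_exists_ne_one.1 (show W ≠ ⊥ from fun e =>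
      e16_ne hf hN N1 (by rwa [e, sup_bot_eq] at w5))
    refine hn (f * w) (mul_mem hf'.1 (w1 hw)) (d3 inf_le_left (F := zpowers f ⊔ zpowers w)
      (sup_le (Subgroup.zpowers_le.2 hf'.1) (Subgroup.zpowers_le.2 (w1 hw)))
      ((stab_mul w3 w2 w4 hf' hw).trans (H86.Cen_sup _ _).ge) ?_)
    rw [H5.card_sup_zpowers Nat.prime_two (H81.FB.c_nzp (H81.FB.cm1.2 (le_Cen_of_sq h2 hf'.1 w (w1 hw))))
      (fun h => w6 (Subtype.ext (Subgroup.mem_bot.1 (w4.le ⟨Subgroup.zpowers_le.2 hf' h, hw⟩))))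
      (h2 w (w1 hw) ▸ one_mem _), e16_two (h2 f hf'.1) fun e => f1 (Subtype.ext e), c16]
  have p15 : p = 3 ∨ p = 5 := by
    have a1 := card_fix_modEq hp pN (hN.trans hE)
    rw [hF, Subgroup.card_bot, c16] at a1
    have a2 : p ∣ 3 * 5 := (Nat.modEq_iff_dvd' (by norm_num)).1 a1.symm
    exact ((Nat.Prime.dvd_mul hp).1 a2).imp (Nat.prime_dvd_prime_iff_eq hp Nat.prime_three).1
      (Nat.prime_dvd_prime_iff_eq hp Nat.prime_five).1
  obtain ⟨y, hy, o7, c2⟩ : ∃ y ∈ E ⊓ Cen (zpowers u), orderOf y = 7 ∧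
      Nat.card (V ⊓ Cen (zpowers y) : Subgroup X) = 2 := by
    by_contra h7
    refine hn u hu (three u hu u1 _ le_rfl (H1.isPiSubgroup_singleton_iff.1 (H1.isPiSubgroup_iff.2 fun r hr hd => ?_)))
    obtain ⟨y, hy, oy⟩ := H1.exists_mem_orderOf_eq_prime hr hd
    exact oy ▸ (f0 u hu u1 y hy (oy ▸ hr)).resolve_right fun h => h7 ⟨y, hy, h⟩
  have n3 : Nat.card (Cen (zpowers u) ⊓ N : Subgroup X) ∣ 3 := by
    have le : Cen (zpowers u) ⊓ N ≤ E ⊓ Cen (zpowers u) := le_inf (inf_le_right.trans hN) inf_le_left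
    rcases p15 with rfl | rfl
    · exact three u hu u1 _ le (pN.to_le inf_le_right)
    by_cases e : Cen (zpowers u) ⊓ N = ⊥
    · rw [e, Subgroup.card_bot]; exact one_dvd _
    obtain ⟨z, hz, oz⟩ := H1.exists_mem_orderOf_eq_prime hp
      (H68.dvd_card_of_isPGroup_of_ne_bot (pN.to_le inf_le_right) e le_rfl)
    have := f0 u hu u1 z (le hz) (oz ▸ hp)
    omega
  have n48 : Nat.card N ≤ 3 * 16 := by
    rw [← H1.card_inf_mul_relIndex (Cen (zpowers u)) N]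
    exact Nat.mul_le_mul (Nat.le_of_dvd (by norm_num) n3) (c16 ▸ e16_idx (hN.trans hE) hu)
  have a1 := card_fix_modEq (by norm_num : Nat.Prime 7) (H81.FB.Pe.zp (u := y) ⟨1, by
    rw [pow_one, ← o7, pow_orderOf_eq_one]⟩) (Subgroup.zpowers_le.2 (nN hy.1))
  have a2 : Nat.card N ≤ Nat.card (N ⊓ Cen (zpowers y) : Subgroup X) := by
    obtain ⟨i, hi⟩ := IsPGroup.iff_card.1 pN
    obtain ⟨j, hj⟩ := IsPGroup.iff_card.1 (pN.to_le (inf_le_left : N ⊓ Cen (zpowers y) ≤ N))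
    have a3 := Subgroup.card_le_of_le (inf_le_left : N ⊓ Cen (zpowers y) ≤ N)
    rw [hi, hj] at a1 a3 ⊢
    exact e16_n2 p15 (hi ▸ n48) a3 a1
  have a3 := inf_eq_left.1 (Subgroup.eq_of_le_of_card_ge (inf_le_left : N ⊓ Cen (zpowers y) ≤ N) a2)
  have uy : u ∈ V ⊓ Cen (zpowers y) := ⟨hu, Subgroup.le_centralizer_iff.1 (Subgroup.zpowers_le.2 hy.2)
    (Subgroup.mem_zpowers u)⟩
  refine u1 (Subgroup.mem_bot.1 (hF.le ⟨hu, fun n hn => ?_⟩))
  have := cen_of_index_two (A := V ⊓ Cen (zpowers y)) (F := ⊥) (s := n) ((isPGroup_of_sq h2).to_le inf_le_left) bot_le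
    (H81.FB.n_inf (hE (hN hn)) (H81.FB.n_c (H86.Cen_le_Nor _ (a3 hn))))
    (ho.of_dvd_nat (H1.orderOf_dvd_card_of_mem (hN hn))).not_two_dvd_nat (by rw [H86.Cen_bot]; trivial)
    (by rw [c2, Subgroup.card_bot])
  exact (this u uy).symm

end OL5
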