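import Mathlib
import Cfsg.Agent.Lib.OL5.EC
import Cfsg.Agent.Lib.Wielandt.FixPoint

set_option autoImplicit false

namespace OL5

open H86 (Cen Nor)
open Subgroup (zpowers center centralizer)

variable {X : Type*} [Group X] [Finite X] {V E N : Subgroup X}

theorem stab31 (h2 : ∀ v ∈ V, v ^ 2 = 1) (hc : Nat.card V = 32) (hE : E ≤ Nor V)
    (ho : Odd (Nat.card E)) (hf : E ⊓ Cen V = ⊥) (hN : N ≤ E) (h1 : N ≠ ⊥) (hp : IsPGroup 31 N)
    (hEN : E ≤ Nor N) {u : X} (hu : u ∈ V) (hu1 : u ≠ 1) :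
    Nat.card (E ⊓ Cen (zpowers u) : Subgroup X) ∣ 5 := by
  haveI : Fact (Nat.Prime 31) := ⟨by norm_num⟩
  have f1 : ∀ n ∈ N, n ≠ 1 → ∀ v ∈ V, n * v = v * n → v = 1 := fun n hn n1 v hv e => by
    have h3 := card_fix_modEq (by norm_num) (hp.to_le (Subgroup.zpowers_le.2 hn))
      (Subgroup.zpowers_le.2 (hE (hN hn)))
    have h4 := Subgroup.card_dvd_of_le (inf_le_left : V ⊓ Cen (zpowers n) ≤ V)
    rw [hc] at h3 h4
    have h5 : Nat.card (V ⊓ Cen (zpowers n) : Subgroup X) = 1 ∨ Nat.card (V ⊓ Cen (zpowers n) : Subgroup X) = 32 := by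
      have := Nat.le_of_dvd (by norm_num) h4
      have := Nat.card_pos (α := (V ⊓ Cen (zpowers n) : Subgroup X))
      unfold Nat.ModEq at h3; omega
    rcases h5 with h5 | h5
    · exact Subgroup.mem_bot.1 ((Subgroup.card_eq_one.1 h5).le ⟨hv, (H81.FB.c_zp n).ge (H81.FB.cm1.2 e.symm)⟩)
    · have := Subgroup.eq_of_le_of_card_ge (inf_le_left : V ⊓ Cen (zpowers n) ≤ V) (by rw [h5, hc])
      exact absurd (Subgroup.mem_bot.1 (hf.le ⟨hN hn, fun w hw =>
        ((inf_eq_left.1 this hw) n (Subgroup.mem_zpowers n)).symm⟩)) n1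
  let φ : N → {v : V // v ≠ 1} := fun n => ⟨⟨n * u * (n : X)⁻¹, H81.FB.cjm (hE (hN n.2)) hu⟩, fun e =>
    hu1 (by simpa using congrArg Subtype.val e)⟩
  have inj : Function.Injective φ := fun a b e => by
    have e' : (a : X) * u * (a : X)⁻¹ = b * u * (b : X)⁻¹ := congrArg (fun z => (z.1 : X)) e
    by_contra hne
    refine hu1 (f1 ((b : X)⁻¹ * a) (mul_mem (inv_mem b.2) a.2) (fun h => hne (Subtype.ext (inv_mul_eq_one.1 h).symm)) u hu ?_)
    calc _ = (b : X)⁻¹ * (a * u * (a : X)⁻¹) * a := by group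
      _ = _ := by rw [e']; group
  have c31 : Nat.card {v : V // v ≠ 1} = 31 := by
    classical
    haveI := Fintype.ofFinite V
    rw [Nat.card_eq_fintype_card, Fintype.card_subtype_compl, Fintype.card_subtype_eq, ← Nat.card_eq_fintype_card, hc]
  have cN : Nat.card N = 31 := by
    have h3 := Nat.card_le_card_of_injective φ inj
    have h4 := Nat.le_of_dvd Nat.card_pos (H68.dvd_card_of_isPGroup_of_ne_bot hp h1 le_rfl)
    omega
  have sur := (inj.bijective_of_nat_card_le (by rw [cN, c31])).2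
  have f2 : ∀ t ∈ E ⊓ Cen (zpowers u), t ≠ 1 → ∀ n ∈ N, t * n = n * t → n = 1 := fun t ht t1 n hn e => by
    by_contra n1
    have hz : zpowers n = N := Subgroup.eq_of_le_of_card_ge (Subgroup.zpowers_le.2 hn) (by
      rw [cN]; exact Nat.le_of_dvd Nat.card_pos (H68.dvd_card_of_isPGroup_of_ne_bot
        (hp.to_le (Subgroup.zpowers_le.2 hn)) (Subgroup.zpowers_ne_bot.2 n1) le_rfl))
    have tN : t ∈ Cen N := by rw [← hz, Cen, H81.FB.c_zp]; exact H81.FB.cm1.2 e
    refine t1 (Subgroup.mem_bot.1 (hf.le ⟨ht.1, fun v hv => ?_⟩))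
    by_cases v1 : v = 1
    · simp [v1]
    obtain ⟨m, hm⟩ := sur ⟨⟨v, hv⟩, fun h => v1 (congrArg Subtype.val h)⟩
    have e' : (m : X) * u * (m : X)⁻¹ = v := congrArg (fun z => (z.1 : X)) hm
    have c1 : Commute (m : X) t := tN m m.2
    have c2 : Commute u t := ht.2 u (Subgroup.mem_zpowers u)
    exact e' ▸ ((c1.mul_left c2).mul_left c1.inv_left).eq
  have d30 : Nat.card (E ⊓ Cen (zpowers u) : Subgroup X) ∣ 30 := by
    haveI : IsCyclic N := isCyclic_of_prime_card cN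
    have := Subgroup.card_dvd_of_injective (N.normalizerMonoidHom.comp
      (Subgroup.inclusion (inf_le_left.trans hEN : E ⊓ Cen (zpowers u) ≤ Nor N))) (by
        rw [injective_iff_map_eq_one]
        intro t ht
        by_contra t1
        obtain ⟨⟨n, hn⟩, n1⟩ := Subgroup.ne_bot_iff_exists_ne_one.1 h1
        exact n1 (Subtype.ext (f2 t t.2 (fun e => t1 (Subtype.ext e)) n hn
          (mul_inv_eq_iff_eq_mul.1 (congrArg Subtype.val (DFunLike.congr_fun ht (⟨n, hn⟩ : N)))))))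
    rwa [IsCyclic.card_mulAut, cN, Nat.totient_prime (by norm_num)] at this
  have od := ho.of_dvd_nat (Subgroup.card_dvd_of_le (inf_le_left : E ⊓ Cen (zpowers u) ≤ E))
  have n3 : ¬ 3 ∣ Nat.card (E ⊓ Cen (zpowers u) : Subgroup X) := fun h3 => by
    obtain ⟨t, ht, ot⟩ := H1.exists_mem_orderOf_eq_prime Nat.prime_three h3
    have hle : N ⊔ zpowers t ≤ E := sup_le hN (Subgroup.zpowers_le.2 ht.1)
    have := H53.Wielandt.frobenius_card_eq N (zpowers t) V
      (H2.inf_eq_bot_of_coprime_card (by rw [cN, Nat.card_zpowers, ot]; norm_num))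
      (fun e he n hn => H81.FB.cjm (hEN (Subgroup.zpowers_le.2 ht.1 he)) hn)
      (fun e he e1 n hn => f2 e (Subgroup.zpowers_le.2 ht he) e1 n hn) (hle.trans hE)
      (H1.isSolvable_of_isPGroup (isPGroup_of_sq h2)) (by
        rw [hc]; exact (Nat.coprime_two_left.2 (ho.of_dvd_nat (Subgroup.card_dvd_of_le hle))).pow_left 5)
      (by
        obtain ⟨⟨n, hn⟩, n1⟩ := Subgroup.ne_bot_iff_exists_ne_one.1 h1
        exact eq_bot_iff.2 fun v hv => f1 n hn (fun e => n1 (Subtype.ext e)) v hv.1 (hv.2 n hn))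
    rw [hc, Nat.card_zpowers, ot] at this
    generalize Nat.card (V ⊓ centralizer (zpowers t : Set X) : Subgroup X) = c at this
    have : c ≤ 3 := by by_contra h; nlinarith [Nat.pow_le_pow_left (show 4 ≤ c by omega) 3]
    interval_cases c <;> omega
  exact Nat.Coprime.dvd_of_dvd_mul_left ((Nat.coprime_two_right.2 od).mul_right
    ((Nat.Prime.coprime_iff_not_dvd Nat.prime_three).2 n3).symm) d30

end OL5
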