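import Mathlib
import Cfsg.Agent.Lib.OL5.E16
import Cfsg.Agent.Lib.OL5.E31

set_option autoImplicit false

namespace OL5

open H86 (Cen Nor)
open Subgroup (zpowers center centralizer)

variable {X : Type*} [Group X] [Finite X] {V E : Subgroup X}

theorem e32_pair (h2 : ∀ v ∈ V, v ^ 2 = 1) (hE : E ≤ Nor V) (ho : Odd (Nat.card E)) (hf : E ⊓ Cen V = ⊥)
    {A B : Subgroup X} (hA : E ≤ Nor A) (hB : E ≤ Nor B) (hd : A ⊓ B = ⊥) (hs : A ⊔ B = V)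
    (hc : Nat.card V = 32) (h : (Nat.card A = 2 ∧ Nat.card B = 16) ∨ (Nat.card A = 4 ∧ Nat.card B = 8)) :
    ∃ u ∈ V, Nat.card (E ⊓ Cen (zpowers u) : Subgroup X) ∣ 3 := by
  have AV : A ≤ V := hs ▸ le_sup_left
  have BV : B ≤ V := hs ▸ le_sup_right
  have pA : IsPGroup 2 A := (isPGroup_of_sq h2).to_le AV
  have od : ∀ t ∈ E, ¬ 2 ∣ orderOf t := fun t ht => (ho.of_dvd_nat (H1.orderOf_dvd_card_of_mem ht)).not_two_dvd_nat
  rcases h with ⟨a, b⟩ | ⟨a, b⟩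
  · obtain ⟨u, hu, e⟩ := stab16 (fun v hv => h2 v (BV hv)) b.le hB ho (eq_bot_iff.2 fun t ht => hf.le ⟨ht.1, by
      rw [← hs, H86.Cen_sup]
      exact ⟨cen_of_index_two pA bot_le (hA ht.1) (od t ht.1) (by rw [H86.Cen_bot]; trivial)
        (by rw [a, Subgroup.card_bot]), ht.2⟩⟩)
    exact ⟨u, BV hu, e⟩
  obtain ⟨⟨x, hx⟩, x1⟩ := Subgroup.ne_bot_iff_exists_ne_one.1 ((Subgroup.one_lt_card_iff_ne_bot A).1 (by omega))
  obtain ⟨⟨y, hy⟩, y1⟩ := Subgroup.ne_bot_iff_exists_ne_one.1 ((Subgroup.one_lt_card_iff_ne_bot B).1 (by omega))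
  refine ⟨x * y, mul_mem (AV hx) (BV hy), e16_d3 h2 hE ho hf inf_le_left (F := A ⊔ zpowers y)
    (sup_le AV (Subgroup.zpowers_le.2 (BV hy))) (fun t ht => ?_) ?_⟩
  · have := stab_mul hA hB hd hx hy ht
    rw [H86.Cen_sup]
    exact ⟨cen_of_index_two pA (Subgroup.zpowers_le.2 hx) (hA ht.1) (od t ht.1) this.1
      (by rw [a, e16_two (h2 x (AV hx)) fun e => x1 (Subtype.ext e)]), this.2⟩
  · rw [H5.card_sup_zpowers Nat.prime_two (H86.Cen_le_Nor A (H86.Cen_anti AV (le_Cen_of_sq h2 (BV hy))))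
      (fun h => y1 (Subtype.ext (Subgroup.mem_bot.1 (hd.le ⟨h, hy⟩)))) (h2 y (BV hy) ▸ one_mem _), a, hc]

theorem stab32 (h2 : ∀ v ∈ V, v ^ 2 = 1) (hc : Nat.card V = 32) (hE : E ≤ Nor V)
    (ho : Odd (Nat.card E)) (hf : E ⊓ Cen V = ⊥) :
    ∃ u ∈ V, Nat.card (E ⊓ Cen (zpowers u) : Subgroup X) ∣ 3 ∨
      (u ≠ 1 ∧ Nat.card (E ⊓ Cen (zpowers u) : Subgroup X) ∣ 5) := by
  by_cases hE1 : E = ⊥
  · exact ⟨1, one_mem _, Or.inl (by rw [hE1, bot_inf_eq, Subgroup.card_bot]; exact one_dvd _)⟩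
  obtain ⟨p, N, hp, po, hN, N1, pN, nN⟩ := exists_normal_p ho hE1
  obtain ⟨W, w1, w2, w3, w4, w5, w6⟩ := exists_compl h2 hE ho hN nN
  by_cases hF : V ⊓ Cen N = ⊥
  · have a1 := card_fix_modEq hp pN (hN.trans hE)
    rw [hF, Subgroup.card_bot, hc] at a1
    obtain rfl := (Nat.prime_dvd_prime_iff_eq hp (by norm_num : Nat.Prime 31)).1
      ((Nat.modEq_iff_dvd' (by norm_num)).1 a1.symm)
    obtain ⟨⟨u, hu⟩, u1⟩ := Subgroup.ne_bot_iff_exists_ne_one.1 ((Subgroup.one_lt_card_iff_ne_bot V).1 (by omega))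
    have u1 : u ≠ 1 := fun e => u1 (Subtype.ext e)
    exact ⟨u, hu, Or.inr ⟨u1, stab31 h2 hc hE ho hf hN N1 pN nN hu u1⟩⟩
  have a1 := (Subgroup.one_lt_card_iff_ne_bot _).2 hF
  have a2 := H1.card_lt_of_lt (lt_of_le_of_ne inf_le_left (e16_ne hf hN N1))
  have p1 := e32_pair h2 hE ho hf w3 w2 w4 w5 hc
  have p2 := e32_pair h2 hE ho hf w2 w3 (inf_comm _ W ▸ w4) (sup_comm _ W ▸ w5) hc
  rw [hc] at w6 a2
  have : (Nat.card (V ⊓ Cen N : Subgroup X) = 2 ∧ Nat.card W = 16 ∨ Nat.card (V ⊓ Cen N : Subgroup X) = 4 ∧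
      Nat.card W = 8) ∨ (Nat.card W = 2 ∧ Nat.card (V ⊓ Cen N : Subgroup X) = 16 ∨ Nat.card W = 4 ∧
      Nat.card (V ⊓ Cen N : Subgroup X) = 8) := by
    generalize Nat.card (V ⊓ Cen N : Subgroup X) = c at w6 a1 a2 ⊢
    interval_cases c <;> omega
  rcases this with h | h
  · obtain ⟨u, hu, e⟩ := p1 h; exact ⟨u, hu, Or.inl e⟩
  · obtain ⟨u, hu, e⟩ := p2 h; exact ⟨u, hu, Or.inl e⟩

theorem stab_ab (hV : IsPGroup 2 V) (hab : V ≤ Cen V) (hc : Nat.card V ≤ 32) (hE : E ≤ Nor V)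
    (ho : Odd (Nat.card E)) (hf : E ⊓ Cen V = ⊥) :
    ∃ u ∈ V, Nat.card (E ⊓ Cen (zpowers u) : Subgroup X) ∣ 3 ∨
      (Nat.card V = 32 ∧ (∀ x ∈ V, x ^ 2 = 1) ∧ u ≠ 1 ∧
        Nat.card (E ⊓ Cen (zpowers u) : Subgroup X) ∣ 5) := by
  let V0 : Subgroup X := ⟨⟨⟨{x | x ∈ V ∧ x ^ 2 = 1}, fun {a b} ha hb => ⟨mul_mem ha.1 hb.1, by
      rw [(show Commute a b from hab hb.1 a ha.1).mul_pow, ha.2, hb.2, one_mul]⟩⟩, one_mem _, one_pow _⟩,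
    fun {a} ha => ⟨inv_mem ha.1, by rw [inv_pow, ha.2, inv_one]⟩⟩
  have le : V0 ≤ V := fun x hx => hx.1
  have h0 : ∀ v ∈ V0, v ^ 2 = 1 := fun v hv => hv.2
  have n0 : E ≤ Nor V0 := H81.FB.nrm_of fun g hg x hx => ⟨H81.FB.cjm (hE hg) hx.1, by rw [conj_pow, hx.2]; simp⟩
  by_cases h : Nat.card V0 ≤ 16
  · obtain ⟨u, hu, e⟩ := stab16 h0 h n0 ho (eq_bot_iff.2 fun t ht => hf.le ⟨ht.1, cen_of_omega hV hab (hE ht.1)
      (ho.of_dvd_nat (H1.orderOf_dvd_card_of_mem ht.1)).not_two_dvd_nat fun x hx e =>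
        mul_inv_eq_iff_eq_mul.2 (ht.2 x ⟨hx, e⟩).symm⟩)
    exact ⟨u, le hu, Or.inl e⟩
  have c : Nat.card V0 = 32 := by
    obtain ⟨k, hk⟩ := IsPGroup.iff_card.1 (isPGroup_of_sq h0)
    have := (Subgroup.card_le_of_le le).trans hc
    rw [hk] at h this ⊢
    have : k ≤ 5 := (Nat.pow_le_pow_iff_right (by norm_num)).1 (this : 2 ^ k ≤ 2 ^ 5)
    interval_cases k <;> omega
  have e := Subgroup.eq_of_le_of_card_ge le (c ▸ hc)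
  obtain ⟨u, hu, h⟩ := stab32 (e ▸ h0) (e ▸ c) hE ho hf
  exact ⟨u, hu, h.imp_right fun h => ⟨e ▸ c, e ▸ h0, h⟩⟩

end OL5
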