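import Mathlib
import Cfsg.Agent.Lib.OL5.E32

set_option autoImplicit false

namespace OL5

open H86 (Cen Nor)
open Subgroup (zpowers center centralizer)

theorem em_card {G : Type*} [Group G] {P S : Subgroup G} (hS : S ≤ Nor P) :
    Nat.card ((S.subgroupOf (Nor P)).map P.normalizerMonoidHom) = (Cen P).relIndex S := by
  rw [← Subgroup.relIndex_ker, Subgroup.normalizerMonoidHom_ker, Subgroup.relIndex_subgroupOf hS]

theorem em_comm {N : Type*} [Group N] (α : MulAut N) (x : N) :
    (SemidirectProduct.inl x * SemidirectProduct.inr α : N ⋊[MonoidHom.id (MulAut N)] MulAut N) =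
      SemidirectProduct.inr α * SemidirectProduct.inl x ↔ α x = x := by
  constructor
  · intro h
    have := congrArg SemidirectProduct.left h
    simpa using this.symm
  · intro h
    ext <;> simp [h]

theorem em_val {G : Type*} [Group G] {P : Subgroup G} (g : Nor P) (x : P) :
    ((P.normalizerMonoidHom g x : P) : G) = g * x * (g : G)⁻¹ := rfl

theorem exists_stab {G : Type*} [Group G] [Finite G] {P T : Subgroup G} (hP : IsPGroup 2 P)
    (hab : P ≤ Cen P) (hc : Nat.card P ≤ 32) (hT : T ≤ Nor P) (ho : ¬ 2 ∣ (Cen P).relIndex T) :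
    ∃ u ∈ P, (Cen P).relIndex (T ⊓ Cen (zpowers u)) ∣ 3 ∨
      (Nat.card P = 32 ∧ (∀ x ∈ P, x ^ 2 = 1) ∧ u ≠ 1 ∧
        (Cen P).relIndex (T ⊓ Cen (zpowers u)) ∣ 5) := by
  classical
  let X := P ⋊[MonoidHom.id (MulAut P)] MulAut P
  haveI : Finite X := Finite.of_equiv _ SemidirectProduct.equivProd.symm
  let il : P →* X := SemidirectProduct.inl
  let ir : MulAut P →* X := SemidirectProduct.inr
  have hil : Function.Injective il := SemidirectProduct.inl_injective
  have hir : Function.Injective ir := SemidirectProduct.inr_injective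
  let V : Subgroup X := (⊤ : Subgroup P).map il
  let I : Subgroup (MulAut P) := (T.subgroupOf (Nor P)).map P.normalizerMonoidHom
  let E : Subgroup X := I.map ir
  have cV : Nat.card V = Nat.card P := by
    rw [Subgroup.card_map_of_injective hil, Subgroup.card_top]
  have cE : Nat.card E = (Cen P).relIndex T := by
    rw [Subgroup.card_map_of_injective hir, em_card hT]
  have hV : IsPGroup 2 V := (hP.to_subgroup ⊤).map il
  have hab' : V ≤ Cen V := by
    rintro _ ⟨x, -, rfl⟩
    rw [H86.mem_Cen]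
    rintro _ ⟨y, -, rfl⟩
    rw [← map_mul, ← map_mul]
    congr 1
    exact Subtype.ext (H86.mem_Cen.1 (hab x.2) y y.2)
  haveI nV : V.Normal := by
    have : V = (SemidirectProduct.rightHom : X →* MulAut P).ker := by
      rw [← SemidirectProduct.range_inl_eq_ker_rightHom, MonoidHom.range_eq_map]
    rw [this]; infer_instance
  have hE : E ≤ Nor V := by
    rw [show Nor V = ⊤ from Subgroup.normalizer_eq_top V]; exact le_top
  have hoE : Odd (Nat.card E) := by
    rw [cE]; exact Nat.odd_iff.2 (by omega)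
  have hf : E ⊓ Cen V = ⊥ := by
    rw [eq_bot_iff]
    rintro _ ⟨⟨α, -, rfl⟩, h⟩
    have : α = 1 := MulEquiv.ext fun x => (em_comm α x).1 (H86.mem_Cen.1 h (il x) ⟨x, trivial, rfl⟩)
    rw [this, map_one]; exact Subgroup.one_mem _
  obtain ⟨_, ⟨u, -, rfl⟩, hu⟩ := stab_ab hV hab' (cV ▸ hc) hE hoE hf
  have key : Nat.card (E ⊓ Cen (zpowers (il u)) : Subgroup X) =
      (Cen P).relIndex (T ⊓ Cen (zpowers (u : G))) := by
    rw [← em_card (inf_le_left.trans hT), ← Subgroup.card_map_of_injective hir]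
    congr 2
    ext y
    constructor
    · rintro ⟨⟨_, ⟨g, hg, rfl⟩, rfl⟩, h⟩
      refine ⟨_, ⟨g, ⟨hg, H86.mem_Cen_zpowers.2 ?_⟩, rfl⟩, rfl⟩
      have h1 := congrArg Subtype.val ((em_comm _ u).1 (H86.mem_Cen_zpowers.1 h))
      rw [em_val] at h1
      exact (mul_inv_eq_iff_eq_mul.1 h1).symm
    · rintro ⟨_, ⟨g, ⟨hg, h⟩, rfl⟩, rfl⟩
      refine ⟨⟨_, ⟨g, hg, rfl⟩, rfl⟩, H86.mem_Cen_zpowers.2 ((em_comm _ u).2 (Subtype.ext ?_))⟩
      rw [em_val]
      exact mul_inv_eq_iff_eq_mul.2 (H86.mem_Cen_zpowers.1 h).symm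
  refine ⟨u, u.2, ?_⟩
  rw [key] at hu
  rcases hu with hu | ⟨h1, h2, h3, h4⟩
  · exact Or.inl hu
  · refine Or.inr ⟨cV ▸ h1, fun x hx => ?_, fun h => h3 ?_, h4⟩
    · have := h2 (il ⟨x, hx⟩) ⟨_, trivial, rfl⟩
      rw [← map_pow, ← map_one il] at this
      exact congrArg Subtype.val (hil this)
    · rw [show u = 1 from Subtype.ext h, map_one]

end OL5
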