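import Mathlib
import Cfsg.Agent.Lib.OL5.BT
import Cfsg.Agent.Lib.OL5.Q1
import Cfsg.Agent.Lib.OL5.M8
import Cfsg.Agent.Lib.OL5.EM
import Cfsg.Agent.Lib.OL5.EC

set_option autoImplicit false
set_option linter.unusedSectionVars false
set_option linter.style.haveILetI false
attribute [local irreducible] H33.instFieldF

namespace OL5

open Cfsg H84 H85 K44
open H33 (F eB)
open H86 (Cen Nor cj cs eS St Mor)
open Subgroup (zpowers center centralizer)
open scoped SubFin

universe u

theorem ba_fix {D : Type*} [Group D] [Finite D] (hc : Nat.card D = 16) {α : MulAut D}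
    (h5 : α ^ 5 = 1) {u : D} (hu : u ≠ 1) (hf : α u = u) : α = 1 := by
  haveI : Fact (Nat.Prime 5) := ⟨Nat.prime_five⟩
  have hp : IsPGroup 5 (zpowers α) := by
    rintro ⟨x, k, rfl⟩
    refine ⟨1, Subtype.ext ?_⟩
    show (α ^ k) ^ 5 ^ 1 = 1
    rw [pow_one, ← zpow_natCast, ← zpow_mul, mul_comm, zpow_mul, zpow_natCast, h5, one_zpow]
  let H : Subgroup D := MonoidHom.eqLocus α.toMonoidHom (MonoidHom.id D)
  have hH : ∀ x, x ∈ H ↔ α x = x := fun x => Iff.rfl
  have he : (MulAction.fixedPoints (zpowers α) D : Set D) = (H : Set D) := by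
    ext x
    rw [MulAction.mem_fixedPoints, SetLike.mem_coe, hH]
    constructor
    · intro h
      exact h ⟨α, Subgroup.mem_zpowers α⟩
    · rintro h ⟨y, hy⟩
      have : zpowers α ≤ MulAction.stabilizer (MulAut D) x := by
        rw [Subgroup.zpowers_le]
        exact h
      exact this hy
  have h1 := hp.card_modEq_card_fixedPoints D
  rw [he, hc] at h1
  have h2 : Nat.card H ∣ 16 := hc ▸ H.card_subgroup_dvd_card
  have h3 : Nat.card H ≠ 1 := fun h => by
    have : u ∈ H := hf
    rw [Subgroup.card_eq_one.1 h] at this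
    exact hu this
  have h4 : Nat.card H = 16 := by
    change 16 ≡ Nat.card H [MOD 5] at h1
    have h6 := Nat.le_of_dvd (by norm_num) h2
    generalize Nat.card H = n at *
    unfold Nat.ModEq at h1
    interval_cases n <;> simp_all
  have h7 : H = ⊤ := H.eq_top_of_card_eq (by rw [h4, hc])
  ext x
  exact (hH x).1 (h7 ▸ trivial)

variable {G : Type u} [Group G] [Fintype G] {M : Ideal AlgInt} [M.IsMaximal]
  {B : Set (IrrCharacter G)} {P : Subgroup G} {e : MonoidAlgebra (F M) G} {u z : G}

theorem ba_free (hc : Nat.card P = 16) (h5 : Nat.card (inq P e) = 5) : Free P e :=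
  free_of_inq fun α hα _ hu hf => ba_fix hc (by
    have := pow_card_eq_one' (x := (⟨α, hα⟩ : inq P e))
    rw [h5] at this
    exact congrArg Subtype.val this) hu hf

theorem k0_le_of_ab (h : MP 2 M B P e) (hab : P ≤ Cen P) (hc : Nat.card P ≤ 32) :
    k0 B ≤ Nat.card P := by
  have hod : ¬ 2 ∣ (Cen P).relIndex (St ⊤ P e) := by
    rw [← card_inq]; exact h.not_dvd_card_inq hab
  obtain ⟨u, hu, hd⟩ := exists_stab h.pgrp hab hc (H86.St_le_Nor _ _ _) hod
  have hcen : P ≤ Cen (zpowers u) := fun x hx =>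
    H86.mem_Cen_zpowers.2 (H86.mem_Cen.1 (hab hx) u hu)
  have hA : P = P ⊓ Cen (zpowers u) := (inf_eq_left.2 hcen).symm
  have hf : FC 2 P e u := fc_of_central hcen
  have key : blockRank 2 (loc 2 M P e (zpowers u)) ≤ 3 → k0 B ≤ Nat.card P := fun hl => by
    have := k0_le_card h hu hf hl
    rwa [← hA] at this
  rcases hd with hd | ⟨h32, h2, hu1, hd⟩
  · exact key (rank_le_of_ab h hu hf hA hab Nat.prime_three fun _ => by rw [SQ_top h]; exact hd)
  · obtain ⟨K, _, _, c, Q, e', m, hQ, hcard, hexp, hinq, hrk, hlat⟩ :=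
      exists_red h hab hu Nat.prime_five hd
    have hou : orderOf u = 2 := orderOf_eq_prime (h2 u hu) hu1
    have hQ16 : Nat.card Q = 16 := by rw [hou, h32] at hcard; omega
    rcases (Nat.dvd_prime Nat.prime_five).1 hinq with h1 | h5
    · refine key ?_
      have := rank_le_prime m hQ Nat.prime_two (h1 ▸ one_dvd _)
      omega
    · have hL : LatOdd c 5 := latOdd_five m hQ (ba_free hQ16 h5) hQ16 (hexp 2 h2) h5
      have hL' : LatOdd (loc 2 M P e (zpowers u)) 5 := fun f hf n hn ho => by
        obtain ⟨f', hf', e⟩ := hlat f hf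
        exact hL f' hf' n (e.trans hn) ho
      have h1 := LatOdd.k0_le h hu (h2 u hu) hL'
      have h3 := rank_le_prime m hQ Nat.prime_five hinq
      rw [h.defect_loc (Subgroup.zpowers_le.2 hu) hcen, ← h.card_eq, ← hrk, h32] at h1
      omega

end OL5
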