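import Mathlib
import Cfsg.Agent.Lib.OL5.BT
import Cfsg.Agent.Lib.OL5.PB
import Cfsg.Agent.Lib.OL5.Q1
import Cfsg.Agent.Lib.OL5.GA

set_option autoImplicit false
set_option linter.unusedSectionVars false
set_option linter.style.haveILetI false
attribute [local irreducible] H33.instFieldF

namespace OL5

open Cfsg H84 H85 K44
open H33 (F eB)
open H86 (Cen Nor cj cs eS St Mor)
open Subgroup (zpowers center centralizer)
open scoped SubFin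

universe u

variable {G : Type u} [Group G] [Fintype G] {M : Ideal AlgInt} [M.IsMaximal]
  {B : Set (IrrCharacter G)} {P : Subgroup G} {e : MonoidAlgebra (F M) G} {u z : G}

theorem bc1_cl (q : C1d P u z) : ∀ x ∈ P, ∀ y ∈ P, x * y * x⁻¹ * y⁻¹ ∈ Cen P := fun x hx y hy => by
  rcases q.comm x hx y hy with e | e <;> rw [e]
  exacts [one_mem _, q.zc]

theorem bc1_le : P ⊓ Cen P ≤ P ⊓ Cen (zpowers u) ↔ ∀ x ∈ P ⊓ Cen P, u * x = x * u :=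
  ⟨fun h _ hx => H86.mem_Cen_zpowers.1 (h hx).2, fun h x hx => ⟨hx.1, H86.mem_Cen_zpowers.2 (h x hx)⟩⟩

/-- Elements acting trivially on `A / A ^ 2`. -/
def bc1K1 (A T : Subgroup G) (hT : T ≤ Nor A) (hab : A ≤ Cen A) : Subgroup G where
  carrier := {x | x ∈ T ∧ ∀ a ∈ A, ∃ y ∈ A, x * a * x⁻¹ = a * y ^ 2}
  one_mem' := ⟨one_mem _, fun a _ => ⟨1, one_mem _, by simp⟩⟩
  mul_mem' := by
    rintro x x' ⟨h1, h2⟩ ⟨h3, h4⟩
    refine ⟨mul_mem h1 h3, fun a ha => ?_⟩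
    obtain ⟨y', hy', e'⟩ := h4 a ha
    obtain ⟨y, hy, e⟩ := h2 a ha
    have h5 := H86.conj_mem_of_Nor (hT h1) hy'
    refine ⟨y * (x * y' * x⁻¹), mul_mem hy h5, ?_⟩
    rw [Commute.mul_pow (H86.mem_Cen.1 (hab h5) y hy), ← mul_assoc, ← e, conj_pow]
    calc x * x' * a * (x * x')⁻¹ = x * (x' * a * x'⁻¹) * x⁻¹ := by group
      _ = _ := by rw [e']; simp only [mul_assoc, inv_mul_cancel_left]
  inv_mem' := by
    rintro x ⟨h1, h2⟩
    refine ⟨inv_mem h1, fun a ha => ?_⟩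
    obtain ⟨y, hy, e⟩ := h2 _ (H86.conj_mem_of_Nor' (hT h1) ha)
    refine ⟨y⁻¹, inv_mem hy, ?_⟩
    rw [inv_inv, inv_pow, eq_mul_inv_iff_mul_eq, ← e]
    group

/-- Elements fixing the involutions of `A`. -/
def bc1K2 (A T : Subgroup G) : Subgroup G := T ⊓ centralizer {a | a ∈ A ∧ a ^ 2 = 1}

theorem bc1K2_mem {A T : Subgroup G} {x : G} :
    x ∈ bc1K2 A T ↔ x ∈ T ∧ ∀ a ∈ A, a ^ 2 = 1 → x * a * x⁻¹ = a := by
  simp only [bc1K2, Subgroup.mem_inf, Subgroup.mem_centralizer_iff, Set.mem_setOf_eq, and_imp,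
    mul_inv_eq_iff_eq_mul]
  exact and_congr_right fun _ => forall₃_congr fun _ _ _ => eq_comm

theorem bc1_act (h : MP 2 M B P e) (q : C1d P u z) {x s : G}
    (hx : x ∈ SQ 2 M P e (P ⊓ Cen (zpowers u))) (hs : s ∈ P) :
    ∃ c ∈ P, ∀ a ∈ P ⊓ Cen (zpowers u), x * s * x⁻¹ * a * (x * s * x⁻¹)⁻¹ = c * a * c⁻¹ := by
  have hab := ab_of_cen q.cen q.mu
  have hle : P ⊓ Cen (zpowers u) ≤ P := inf_le_left
  have hZ : P ⊓ Cen P ≤ P ⊓ Cen (zpowers u) := bc1_le.2 fun x hx => H86.mem_Cen.1 hx.2 u q.mu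
  have hN := le_Nor_of_cl (bc1_cl q) hle hZ
  have halt : (∃ c ∈ P ⊓ Cen (zpowers u), z = c ^ 2) ∨
      ∀ x ∈ P ⊓ Cen (zpowers u), x ^ 2 = 1 → x ∈ Cen P :=
    q.alt.imp (fun ⟨c, h1, h2⟩ => ⟨c, hZ h1, h2⟩) fun h1 x hx =>
      h1 x hx.1 (H86.mem_Cen_zpowers.1 hx.2).symm
  generalize P ⊓ Cen (zpowers u) = A at hx hab hle hZ hN halt
  have hT : SQ 2 M P e A ≤ Nor A := SQ_le_Nor
  have hP : P ≤ SQ 2 M P e A := fun y hy => inf_Nor_le_SQ h hle ⟨hy, hN hy⟩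
  have hm : x * s * x⁻¹ ∈ SQ 2 M P e A := mul_mem (mul_mem hx (hP hs)) (inv_mem hx)
  have hpA := h.pgrp.to_le hle
  have e0 : ∀ a, x * s * x⁻¹ * a * (x * s * x⁻¹)⁻¹ = x * (s * (x⁻¹ * a * x) * s⁻¹) * x⁻¹ :=
    fun a => by group
  suffices ∃ c ∈ P ⊓ Nor A, ∀ a ∈ A, x * s * x⁻¹ * a * (x * s * x⁻¹)⁻¹ = c * a * c⁻¹ from
    this.imp fun c hc => ⟨hc.1.1, hc.2⟩
  rcases halt with ⟨c, hc, hz⟩ | h2
  · have h1 : P ≤ bc1K1 A _ hT hab := fun y hy => ⟨hP hy, fun a ha => by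
      rcases q.comm y hy a (hle ha) with e | e <;> rw [mul_inv_eq_iff_eq_mul] at e
      · exact ⟨1, one_mem _, by simpa using e⟩
      · exact ⟨c, hc, by rw [e, ← hz]; exact (H86.mem_Cen.1 q.zc a (hle ha)).symm⟩⟩
    refine act_of_le h hle (fn_of_normal hN) (T := bc1K1 A _ hT hab) (inf_le_left.trans h1)
      (fun y hy => ⟨Cen_le_SQ h hle hy, fun a ha => ⟨1, one_mem _, by
        simpa using H86.mem_Cen_iff_conj.1 hy a ha⟩⟩) (fun y hy => hy.1)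
      (fun t ht ho => cen_of_frattini hpA hab (hT ht.1) ho ht.2) ⟨hm, fun a ha => ?_⟩
    obtain ⟨y, hy, e⟩ := (h1 hs).2 _ (H86.conj_mem_of_Nor' (hT hx) ha)
    refine ⟨_, H86.conj_mem_of_Nor (hT hx) hy, ?_⟩
    rw [e0, e, conj_pow]
    simp only [mul_assoc, mul_inv_cancel_left]
  · have h1 : P ≤ bc1K2 A (SQ 2 M P e A) := fun y hy => bc1K2_mem.2 ⟨hP hy, fun a ha h3 =>
      mul_inv_eq_iff_eq_mul.2 (H86.mem_Cen.1 (h2 a ha h3) y hy)⟩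
    refine act_of_le h hle (fn_of_normal hN) (T := bc1K2 A _) (inf_le_left.trans h1)
      (fun y hy => bc1K2_mem.2 ⟨Cen_le_SQ h hle hy, fun a ha _ => H86.mem_Cen_iff_conj.1 hy a ha⟩)
      inf_le_left (fun t ht ho => cen_of_omega hpA hab (hT ht.1) ho (bc1K2_mem.1 ht).2)
      (bc1K2_mem.2 ⟨hm, fun a ha h3 => ?_⟩)
    rw [e0, (bc1K2_mem.1 (h1 hs)).2 _ (H86.conj_mem_of_Nor' (hT hx) ha) (by
      rw [sq] at h3 ⊢
      calc x⁻¹ * a * x * (x⁻¹ * a * x) = x⁻¹ * (a * a) * x := by group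
        _ = 1 := by rw [h3]; group)]
    group

theorem c1_nor (h : MP 2 M B P e) (q : C1d P u z) {x : G}
    (hx : x ∈ SQ 2 M P e (P ⊓ Cen (zpowers u))) : x * u * x⁻¹ ∉ Cen P ∧ x * z * x⁻¹ = z := by
  have hu : u ∈ P ⊓ Cen (zpowers u) := ⟨q.mu, H86.mem_Cen_zpowers.2 rfl⟩
  obtain ⟨s, hs, hsu⟩ : ∃ s ∈ P, s * u ≠ u * s := by
    by_contra h1
    push Not at h1
    exact q.nu (H86.mem_Cen.2 h1)
  have hu' := H86.conj_mem_of_Nor (SQ_le_Nor hx) hu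
  refine ⟨fun h1 => ?_, ?_⟩
  · obtain ⟨c, hc, h2⟩ := bc1_act h q (inv_mem hx) hs
    have h3 := H86.mem_Cen.1 h1 s hs
    have h4 : c * u * c⁻¹ = u := by
      rw [← h2 u hu]
      calc x⁻¹ * s * x⁻¹⁻¹ * u * (x⁻¹ * s * x⁻¹⁻¹)⁻¹ = x⁻¹ * (s * (x * u * x⁻¹)) * s⁻¹ * x := by group
        _ = u := by rw [h3]; group
    have h5 := H86.conj_mem_of_Nor' (SQ_le_Nor hx) hu
    have h6 := h2 _ h5
    rw [H86.mem_Cen_iff_conj.1 (ab_of_cen q.cen q.mu (show c ∈ P ⊓ Cen (zpowers u) from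
      ⟨hc, H86.mem_Cen_zpowers.2 (mul_inv_eq_iff_eq_mul.1 h4).symm⟩)) _ h5] at h6
    refine hsu ?_
    calc s * u = x * (x⁻¹ * s * x⁻¹⁻¹ * (x⁻¹ * u * x) * (x⁻¹ * s * x⁻¹⁻¹)⁻¹) * x⁻¹ * s := by group
      _ = u * s := by rw [h6]; group
  · obtain ⟨c, hc, h2⟩ := bc1_act h q hx hs
    have h3 : s * u * s⁻¹ * u⁻¹ = z := (q.comm s hs u q.mu).resolve_left fun e =>
      hsu (by rwa [mul_inv_eq_one, mul_inv_eq_iff_eq_mul] at e)
    have h4 : x * z * x⁻¹ = c * (x * u * x⁻¹) * c⁻¹ * (x * u * x⁻¹)⁻¹ := by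
      rw [← h2 _ hu', ← h3]; group
    refine h4.trans ((q.comm c hc _ hu'.1).resolve_left fun e => q.z1 ?_)
    simpa using h4.trans e

theorem k0_le_of_c1 (h : MP 2 M B P e) (hc : Nat.card P ≤ 32) (q : C1d P u z) :
    2 * k0 B ≤ Nat.card P := by
  have hf : FC 2 P e u := by_contra fun hf => by
    obtain ⟨t, ht, h1⟩ := pull_back h (bc1_cl q) q.mu q.cen hf
    exact (c1_nor h q ht).1 h1
  rw [q.two] at hc ⊢
  refine Nat.mul_le_mul_left _ (k0_le_card h q.mu hf (rank_le_of_ab h q.mu hf rfl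
    (ab_of_cen q.cen q.mu) Nat.prime_three fun hd => relIndex_dvd_three (h.pgrp.to_le inf_le_left)
      (inf_le_left.trans SQ_le_Nor) hd (F := zpowers u ⊔ zpowers z) ?_ ?_ ?_))
  · exact sup_le (Subgroup.zpowers_le.2 ⟨q.mu, H86.mem_Cen_zpowers.2 rfl⟩)
      (Subgroup.zpowers_le.2 ⟨q.mz, H86.mem_Cen_zpowers.2 (H86.mem_Cen.1 q.zc u q.mu)⟩)
  · rw [H86.le_Cen_comm]
    refine sup_le (H86.le_Cen_comm.1 inf_le_right) (Subgroup.zpowers_le.2 (H86.mem_Cen.2 fun t ht => ?_))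
    exact mul_inv_eq_iff_eq_mul.1 (c1_nor h q ht.1).2
  · have h1 := Subgroup.card_dvd_of_le (le_sup_right : zpowers z ≤ zpowers u ⊔ zpowers z)
    have h2 : Nat.card (zpowers z) = 2 := by rw [Nat.card_zpowers, orderOf_eq_prime q.z2 q.z1]
    have h3 : ¬ Nat.card (zpowers u ⊔ zpowers z : Subgroup G) ≤ Nat.card (zpowers z) := fun h3 =>
      q.nu (Subgroup.zpowers_le.2 q.zc ((Subgroup.eq_of_le_of_card_ge le_sup_right h3).ge
        (Subgroup.mem_sup_left (Subgroup.mem_zpowers u))))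
    rw [h2] at h1 h3
    omega

end OL5
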