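import Mathlib
import Cfsg.Agent.Lib.OL5.BT
import Cfsg.Agent.Lib.OL5.PB
import Cfsg.Agent.Lib.OL5.GA

set_option autoImplicit false
set_option linter.unusedSectionVars false
set_option linter.style.haveILetI false
attribute [local irreducible] H33.instFieldF

namespace OL5

open Cfsg H84 H85 K44
open H33 (F eB)
open H86 (Cen Nor cj cs eS St Mor)
open Subgroup (zpowers center centralizer)
open scoped SubFin

universe u

theorem bg4_two {G : Type*} [Group G] [Finite G] {Z : Subgroup G} (h : Nat.card Z = 4) :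
    ∃ a ∈ Z, ∃ b ∈ Z, a ≠ 1 ∧ b ≠ 1 ∧ a ≠ b := by
  haveI := Fintype.ofFinite Z
  have h3 : 2 < Fintype.card Z := by rw [← Nat.card_eq_fintype_card, h]; norm_num
  obtain ⟨x, y, w, h1, h2, h4⟩ := Fintype.two_lt_card_iff.1 h3
  refine ⟨x⁻¹ * y, Z.mul_mem (Z.inv_mem x.2) y.2, x⁻¹ * w, Z.mul_mem (Z.inv_mem x.2) w.2,
    fun e => h1 (Subtype.ext (inv_mul_eq_one.1 e)), fun e => h2 (Subtype.ext (inv_mul_eq_one.1 e)),
    fun e => h4 (Subtype.ext (mul_left_cancel e))⟩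

variable {G : Type u} [Group G] [Fintype G] {M : Ideal AlgInt} [M.IsMaximal]
  {B : Set (IrrCharacter G)} {P : Subgroup G} {e : MonoidAlgebra (F M) G} {u z : G}

theorem bg4_fc (h : MP 2 M B P e) (q : G4d P u) : FC 2 P e u := by
  by_contra hf
  obtain ⟨t, ht, hp⟩ := pull_back h q.cl q.mu q.cen hf
  set Q : Subgroup G := P ⊓ Cen (zpowers u) with hQ
  set Z : Subgroup G := P ⊓ Cen P with hZ
  have hQP : Q ≤ P := inf_le_left
  have hZQ : Z ≤ Q := fun x hx => ⟨hx.1, H86.mem_Cen_zpowers.2 (H86.mem_Cen.1 hx.2 u q.mu)⟩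
  have huQ : u ∈ Q := ⟨q.mu, H86.mem_Cen_zpowers.2 rfl⟩
  have hPN : P ≤ Nor Q := le_Nor_of_cl q.cl hQP hZQ
  have htN : t ∈ Nor Q := SQ_le_Nor ht
  have hsplit : ∀ x ∈ Q, x ∈ Cen P ∨ x * u⁻¹ ∈ Cen P := fun x hx =>
    q.cen x hx.1 (H86.mem_Cen_zpowers.1 hx.2).symm
  obtain ⟨w, hw, hw1, hwt⟩ : ∃ w ∈ Z, w ≠ 1 ∧ t * w * t⁻¹ ∈ Cen P := by
    obtain ⟨a, ha, b, hb, ha1, hb1, hab⟩ := bg4_two q.z4
    rcases hsplit _ (H86.conj_mem_of_Nor htN (hZQ ha)) with h1 | h1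
    · exact ⟨a, ha, ha1, h1⟩
    rcases hsplit _ (H86.conj_mem_of_Nor htN (hZQ hb)) with h2 | h2
    · exact ⟨b, hb, hb1, h2⟩
    refine ⟨a * b⁻¹, Z.mul_mem ha (Z.inv_mem hb), fun e => hab (mul_inv_eq_one.1 e), ?_⟩
    have := (Cen P).mul_mem h1 ((Cen P).inv_mem h2)
    convert this using 1
    group
  obtain ⟨s, hs, hsu⟩ := q.onto w hw
  set p' := t * w * t⁻¹ with hp'
  have hp'Q : p' ∈ Q := H86.conj_mem_of_Nor htN (hZQ hw)
  have hp'Z : p' ∈ Z := ⟨hp'Q.1, hwt⟩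
  have hp'1 : p' ≠ 1 := fun e => hw1 (by
    have : w = t⁻¹ * p' * t := by rw [hp']; group
    rw [this, e]; group)
  have hwu : u * w = w * u := H86.mem_Cen.1 hw.2 u q.mu
  -- the action of `s' = t s t⁻¹` on `Q`
  have hact : ∀ x ∈ Q, t * s * t⁻¹ * x * (t * s * t⁻¹)⁻¹ = x ∨
      t * s * t⁻¹ * x * (t * s * t⁻¹)⁻¹ = x * p' := fun x hx => by
    have hy := H86.conj_mem_of_Nor' htN hx
    obtain ⟨y, rfl⟩ : ∃ y, x = t * y * t⁻¹ := ⟨t⁻¹ * x * t, by group⟩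
    have hy' : y ∈ Q := by convert hy using 1; group
    have e1 : t * s * t⁻¹ * (t * y * t⁻¹) * (t * s * t⁻¹)⁻¹ = t * (s * y * s⁻¹) * t⁻¹ := by group
    rw [e1]
    rcases hsplit y hy' with h1 | h1
    · left
      rw [H86.mem_Cen.1 h1 s hs, mul_inv_cancel_right]
    · right
      have e2 : s * y * s⁻¹ = s * (y * u⁻¹) * s⁻¹ * (s * u * s⁻¹) := by group
      rw [e2, H86.mem_Cen.1 h1 s hs, mul_inv_cancel_right, hsu, ← hwu, hp']
      group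
  have hs'SQ : t * s * t⁻¹ ∈ SQ 2 M P e Q :=
    (SQ 2 M P e Q).mul_mem ((SQ 2 M P e Q).mul_mem ht (inf_Nor_le_SQ h hQP ⟨hs, hPN hs⟩))
      ((SQ 2 M P e Q).inv_mem ht)
  have hs'Z : t * s * t⁻¹ ∈ Nor Z := Subgroup.mem_normalizer_fintype fun x hx => by
    rcases hact x (hZQ hx) with h1 | h1
    · rw [h1]; exact hx
    · rw [h1]; exact Z.mul_mem hx hp'Z
  have hs'p : t * s * t⁻¹ ∈ Cen (zpowers p') := by
    rw [H86.mem_Cen_zpowers, hp']
    have := H86.mem_Cen.1 hw.2 s hs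
    calc t * w * t⁻¹ * (t * s * t⁻¹) = t * (w * s) * t⁻¹ := by group
      _ = t * (s * w) * t⁻¹ := by rw [this]
      _ = _ := by group
  let T : Subgroup G := SQ 2 M P e Q ⊓ Nor Z ⊓ Cen (zpowers p')
  have hCZ : ∀ g, (∀ x ∈ Z, x * g = g * x) → g ∈ Nor Z ∧ g ∈ Cen (zpowers p') := fun g hg =>
    ⟨H86.Cen_le_Nor Z (H86.mem_Cen.2 hg), H86.mem_Cen_zpowers.2 (hg _ hp'Z)⟩
  have hPg := h.pgrp
  obtain ⟨c, hc, hcq⟩ := act_of_le (T := T) h hQP (fn_of_normal hPN)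
    (fun g hg => by
      have := hCZ g fun x hx => (H86.mem_Cen.1 hx.2 g hg.1).symm
      exact ⟨⟨inf_Nor_le_SQ h hQP hg, this.1⟩, this.2⟩)
    (fun g hg => by
      have := hCZ g fun x hx => H86.mem_Cen.1 hg x (hZQ hx)
      exact ⟨⟨Cen_le_SQ h hQP hg, this.1⟩, this.2⟩)
    (inf_le_left.trans inf_le_left)
    (fun g hg ho => by
      have h2 : 2 ≤ Nat.card (zpowers p') := by
        rw [Nat.card_zpowers]
        have h3 := orderOf_pos p'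
        have h4 : orderOf p' ≠ 1 := fun e => hp'1 (orderOf_eq_one_iff.1 e)
        omega
      have h5 : g ∈ Cen Z := cen_of_index_two (hPg.to_le (hZQ.trans hQP))
        (Subgroup.zpowers_le.2 hp'Z) hg.1.2 ho hg.2 (by rw [q.z4]; omega)
      exact cen_of_index_two (hPg.to_le hQP) hZQ (SQ_le_Nor hg.1.1) ho h5
        (by rw [q.z4, q.c8]))
    (t := t * s * t⁻¹) ⟨⟨hs'SQ, hs'Z⟩, hs'p⟩
  have h6 := hcq _ (H86.conj_mem_of_Nor htN huQ)
  rw [H86.mem_Cen.1 hp c hc.1, mul_inv_cancel_right] at h6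
  have h7 : t * s * t⁻¹ * (t * u * t⁻¹) * (t * s * t⁻¹)⁻¹ = p' * (t * u * t⁻¹) := by
    calc _ = t * (s * u * s⁻¹) * t⁻¹ := by group
      _ = _ := by rw [hsu, hp']; group
  rw [h7] at h6
  exact hp'1 (mul_eq_right.1 h6)

theorem k0_le_of_g4 (h : MP 2 M B P e) (q : G4d P u) : k0 B ≤ 8 := by
  have hf := bg4_fc h q
  have h1 : orderOf u ≠ 1 := fun e => q.nu (by rw [orderOf_eq_one_iff.1 e]; exact one_mem _)
  have h2 := orderOf_pos u
  have h3 := k0_le_card h q.mu hf (rank_le_small h q.mu hf (by rw [q.c8]; omega))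
  rwa [q.c8] at h3

end OL5
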