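import Mathlib
import Cfsg.Agent.Lib.OL5.BT
import Cfsg.Agent.Lib.OL5.AV2
import Cfsg.Agent.Lib.OL5.GA

set_option autoImplicit false
set_option linter.unusedSectionVars false
set_option linter.style.haveILetI false
attribute [local irreducible] H33.instFieldF

namespace OL5

open Cfsg H84 H85 K44
open H33 (F eB)
open H86 (Cen Nor cj cs eS St Mor)
open Subgroup (zpowers center centralizer)
open scoped SubFin

universe u

variable {G : Type u} [Group G] [Fintype G] {M : Ideal AlgInt} [M.IsMaximal]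
  {B : Set (IrrCharacter G)} {P : Subgroup G} {e : MonoidAlgebra (F M) G} {u z : G}

theorem bv_mem {a : P} {x : G} :
    x ∈ P ⊓ Cen (zpowers (a : G)) ↔ ∃ hx : x ∈ P, (⟨x, hx⟩ : P) ∈ centralizer ({a} : Set P) := by
  rw [← map_cen]
  exact ⟨fun ⟨y, hy, e⟩ => e ▸ ⟨y.2, hy⟩, fun ⟨hx, h⟩ => ⟨_, h, rfl⟩⟩

theorem bv_sq {D : Type*} [Group D] {a : D} {k : ℕ} (ho : orderOf a = 2 ^ (k + 2)) {i : ℤ}
    (h : (a ^ i) ^ 2 = 1) : a ^ i = 1 ∨ a ^ i = a ^ 2 ^ (k + 1) := by
  rw [← zpow_natCast, ← zpow_mul, ← orderOf_dvd_iff_zpow_eq_one, ho, pow_succ] at h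
  push_cast at h
  obtain ⟨j, rfl⟩ := (mul_dvd_mul_iff_right two_ne_zero).1 h
  have h2 : (a ^ 2 ^ (k + 1)) ^ (2 : ℤ) = 1 := by
    rw [zpow_ofNat, ← pow_mul, ← pow_succ, ← ho, pow_orderOf_eq_one]
  rw [show (2 : ℤ) ^ (k + 1) = ((2 ^ (k + 1) : ℕ) : ℤ) by simp, zpow_mul, zpow_natCast]
  rcases Int.even_or_odd' j with ⟨m, rfl | rfl⟩
  · left; rw [zpow_mul, h2, one_zpow]
  · right; rw [zpow_add, zpow_mul, h2, one_zpow, one_mul, zpow_one]

theorem k0_le_of_avc (h : MP 2 M B P e) {k : ℕ} {a b t : P} (q : AVc k a b t) :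
    k0 B ≤ (commutator P).index := by
  have ho : orderOf (a : G) = 2 ^ (k + 2) := by rw [Subgroup.orderOf_coe, q.ord]
  have hζ : (a : G) ^ 2 ^ (k + 1) ≠ 1 :=
    pow_ne_one_of_lt_orderOf (by positivity) (by rw [ho]; exact Nat.pow_lt_pow_right one_lt_two (by omega))
  have hζ2 : (a : G) ^ 2 ^ (k + 1) * (a : G) ^ 2 ^ (k + 1) = 1 := by
    rw [← pow_add, ← two_mul, ← pow_succ', ← ho, pow_orderOf_eq_one]
  have hi : (centralizer ({a} : Set P)).index = 2 := by
    have := (centralizer ({a} : Set P)).index_mul_card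
    rw [q.two] at this
    exact Nat.eq_of_mul_eq_mul_right Nat.card_pos this
  have hcc := cc_coe a
  have hmem := fun x => bv_mem (a := a) (x := x)
  have hcA : ∀ x ∈ P ⊓ Cen (zpowers (a : G)), x * a * x⁻¹ = a := fun x hx => by
    rw [← H86.mem_Cen_zpowers.1 hx.2, mul_inv_cancel_right]
  have hle : P ⊓ Cen (zpowers (a : G)) ≤ P := inf_le_left
  have hr1 := rank_one_of_ab h a.2
  have hpd := pow_defect_of_fc h a.2
  have hex := fun v (hv : Fus 2 P e a v) => extC h hv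
  generalize P ⊓ Cen (zpowers (a : G)) = A at hcc hmem hcA hle hr1 hpd hex
  have hA : ∀ x ∈ A, ∃ i : ℤ, x = (a : G) ^ i ∨ x = (a : G) ^ i * b := fun x hx => by
    obtain ⟨h1, h2⟩ := (hmem x).1 hx
    obtain ⟨i, h3⟩ := (q.cen _).1 (mem_cen.1 h2)
    exact ⟨i, h3.imp (congrArg Subtype.val) (congrArg Subtype.val)⟩
  have haA : (a : G) ∈ A := (hmem _).2 ⟨a.2, mem_cen.2 rfl⟩
  have hba : b * a = a * b := (q.cen b).2 ⟨0, Or.inr (by simp)⟩
  have hbA : (b : G) ∈ A := (hmem _).2 ⟨b.2, mem_cen.2 hba⟩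
  have hc : Commute (a : G) b := (congrArg Subtype.val hba).symm
  have hb2 : (b : G) ^ 2 = 1 := congrArg Subtype.val q.sq
  have hab : A ≤ Cen A := fun x hx => H86.mem_Cen.2 fun y hy => by
    obtain ⟨i, rfl | rfl⟩ := hA x hx <;> obtain ⟨j, rfl | rfl⟩ := hA y hy
    · exact (Commute.refl _).zpow_zpow _ _
    · exact Commute.mul_left ((Commute.refl _).zpow_zpow _ _) (hc.symm.zpow_right _)
    · exact Commute.mul_right ((Commute.refl _).zpow_zpow _ _) (hc.zpow_left _)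
    · exact Commute.mul_left (Commute.mul_right ((Commute.refl _).zpow_zpow _ _) (hc.zpow_left _))
        (Commute.mul_right (hc.symm.zpow_right _) (Commute.refl _))
  have hN : P ≤ Nor A := fun c hc => H86.mem_Nor_of_cs_le (by
    rintro _ ⟨x, hx, rfl⟩
    obtain ⟨h1, h2⟩ := (hmem x).1 hx
    exact (hmem _).2 ⟨_, (Subgroup.normal_of_index_eq_two hi).conj_mem _ h2 ⟨c, hc⟩⟩)
  have hlt : ∀ v ∈ P, orderOf v = 2 ^ (k + 2) →
      Nat.card (P ⊓ Cen (zpowers v) : Subgroup G) ≤ Nat.card A := fun v hv h1 => by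
    have h2 := two_mul_cc_le (v := (⟨v, hv⟩ : P)) fun h2 => by
      have h3 : v ^ 2 ^ (k + 1) = 1 := congrArg Subtype.val (q.zexp _ h2)
      exact pow_ne_one_of_lt_orderOf (by positivity)
        (by rw [h1]; exact Nat.pow_lt_pow_right one_lt_two (by omega)) h3
    rw [q.two, hcc, cc_coe] at h2
    exact Nat.le_of_mul_le_mul_left h2 two_pos
  have hord : ∀ v w : G, Fus 2 P e v w → orderOf w = orderOf v := fun v w hf => by
    obtain ⟨g, -, rfl⟩ := hf
    exact MulAut.conj g |>.orderOf_eq v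
  have heq : ∀ v ∈ A, orderOf v = 2 ^ (k + 2) → P ⊓ Cen (zpowers v) = A := fun v hv h1 =>
    (Subgroup.eq_of_le_of_card_ge (le_inf hle (hab.trans (H86.Cen_anti (Subgroup.zpowers_le.2 hv))))
      (hlt v (hle hv) h1)).symm
  have hfc : ∀ v ∈ A, orderOf v = 2 ^ (k + 2) → FC 2 P e v := fun v hv h1 w hw => by
    rw [heq v hv h1]
    exact hlt w hw.right ((hord _ _ hw).trans h1)
  have hodd : ∀ s ∈ Nor A, ¬ 2 ∣ orderOf s → s ∈ Cen A := fun s hs h1 => by
    have hbz : (b : G) ^ 2 ^ (k + 1) = 1 := by rw [pow_succ', pow_mul, hb2, one_pow]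
    have sol : ∀ x ∈ A, x ^ 2 = 1 → x = 1 ∨ x = (a : G) ^ 2 ^ (k + 1) ∨ x = b ∨
        x = (a : G) ^ 2 ^ (k + 1) * b := fun x hx h2 => by
      obtain ⟨i, rfl | rfl⟩ := hA x hx
      · exact (bv_sq ho h2).imp id Or.inl
      · rw [(hc.zpow_left i).mul_pow, hb2, mul_one] at h2
        rcases bv_sq ho h2 with e | e <;> simp [e]
    have s1 : s * (a : G) ^ 2 ^ (k + 1) * s⁻¹ = (a : G) ^ 2 ^ (k + 1) := by
      have h2 : ∃ i : ℤ, s * (a : G) ^ 2 ^ (k + 1) * s⁻¹ = (a : G) ^ i := by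
        obtain ⟨i, e | e⟩ := hA _ ((H86.mem_Nor.1 hs _).1 haA)
        · exact ⟨i * (2 ^ (k + 1) : ℕ), by rw [← conj_pow, e, zpow_mul, zpow_natCast]⟩
        · exact ⟨i * (2 ^ (k + 1) : ℕ), by
            rw [← conj_pow, e, (hc.zpow_left i).mul_pow, hbz, mul_one, zpow_mul, zpow_natCast]⟩
      obtain ⟨i, e⟩ := h2
      rcases bv_sq ho (i := i) (by rw [← e, conj_pow, sq, hζ2]; simp) with e' | e'
      · exact absurd (by simpa [e'] using e) hζ
      · exact e.trans e'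
    have s2 : s * b * s⁻¹ = b := by
      rcases sol _ ((H86.mem_Nor.1 hs _).1 hbA) (by rw [conj_pow, hb2]; simp) with e | e | e | e
      · have : (b : G) = 1 := by simpa using e
        simp [this]
      · have : (b : G) = (a : G) ^ 2 ^ (k + 1) := (MulAut.conj s).injective (e.trans s1.symm)
        rw [this, s1]
      · exact e
      · refine fix_of_sq h1 (mul_inv_eq_iff_eq_mul.1 ?_)
        calc s ^ 2 * b * (s ^ 2)⁻¹ = s * (s * b * s⁻¹) * s⁻¹ := by rw [sq]; group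
          _ = s * (a : G) ^ 2 ^ (k + 1) * s⁻¹ * (s * b * s⁻¹) := by
            conv_lhs => rw [e]
            simp only [mul_assoc, inv_mul_cancel_left]
          _ = b := by rw [s1, e, ← mul_assoc, hζ2, one_mul]
    refine cen_of_omega (h.pgrp.to_le hle) hab hs h1 fun x hx h2 => ?_
    rcases sol x hx h2 with rfl | rfl | rfl | rfl
    · simp
    · exact s1
    · exact s2
    · conv_rhs => rw [← s1, ← s2]
      simp only [mul_assoc, inv_mul_cancel_left]
  have hl := hr1 (hfc _ haA ho) hab fun s _ => hodd s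
  have htA : t ∉ centralizer ({a} : Set P) := fun h1 => by
    have h2 : t * a * t⁻¹ = a := by rw [mem_cen.1 h1, mul_inv_cancel_right]
    have h3 := Nat.one_le_two_pow (n := k)
    have h4 : 2 ^ (k + 2) = 4 * 2 ^ k := by ring
    rcases q.conj with e | ⟨hk, e⟩ <;> rw [h2] at e
    · refine pow_ne_one_of_lt_orderOf (x := a) two_ne_zero (by rw [q.ord]; omega) ?_
      rw [sq, ← eq_inv_iff_mul_eq_one]; exact e
    · rw [eq_inv_mul_iff_mul_eq, ← sq, pow_inj_mod, q.ord, Nat.mod_eq_of_lt (by omega),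
        Nat.mod_eq_of_lt (by omega)] at e
      have := Nat.pow_le_pow_right two_pos hk
      omega
  have h1 : Fus 2 P e (a : G) (t * a * t⁻¹ : P) := h.fus_conj_mem a.2 t.2
  have h2 : ∀ v ∈ zpowers (a : G), Fus 2 P e a v → v = a ∨ v = (t * a * t⁻¹ : P) := fun v hv hf => by
    have hvA := Subgroup.zpowers_le.2 haA hv
    have hvo := (hord _ _ hf).trans ho
    obtain ⟨g, hg, rfl⟩ := hex v hf (hfc v hvA hvo)
    have h3 : cs g A ≤ A := by
      conv_rhs => rw [← heq _ hvA hvo]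
      refine le_inf hg.cs_le fun x hx => H86.mem_Cen_zpowers.2 ?_
      have h4 := H86.mem_Cen.1 (hab (H86.mem_cs.1 hx)) _ haA
      calc g * a * g⁻¹ * x = g * (a * (g⁻¹ * x * g)) * g⁻¹ := by group
        _ = x * (g * a * g⁻¹) := by rw [h4]; group
    obtain ⟨c, hc, h4⟩ := act_of_le h hle (fn_of_normal hN) (inf_Nor_le_SQ h hle) (Cen_le_SQ h hle)
      le_rfl (fun s hs => hodd s (SQ_le_Nor hs))
      (mem_SQ h hg (H86.mem_Nor_iff_cs.1 (H86.mem_Nor_of_cs_le h3)))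
    rw [h4 _ haA]
    by_cases h5 : (⟨c, hc.1⟩ : P) ∈ centralizer ({a} : Set P)
    · exact Or.inl (hcA c ((hmem c).2 ⟨_, h5⟩))
    · have h6 := hcA _ ((hmem _).2 ⟨_, (Subgroup.mul_mem_iff_of_index_two hi (a := t⁻¹)
        (b := ⟨c, hc.1⟩)).2 (iff_of_false (fun h => htA (by simpa using h)) h5)⟩)
      right
      push_cast at h6 ⊢
      conv_rhs => rw [← h6]
      group
  have key : k0 B * 2 ^ k ≤ 2 ^ blockDefect 2 (loc 2 M P e (zpowers (a : G))) := by
    rcases q.conj with e | ⟨hk, e⟩ <;> rw [e] at h1 h2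
    · exact k0_mul_le h a.2 ho hl h1 h2
    · exact k0_mul_le' h a.2 hk ho hl h1 h2
  rw [hpd (hfc _ haA ho), ← hcc] at key
  exact Nat.le_of_mul_le_mul_left ((mul_comm _ _).trans_le (key.trans q.le)) (by positivity)

end OL5
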