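import Mathlib
import Cfsg.Agent.Lib.OL5.GT1
import Cfsg.Agent.Lib.OL5.GT3
import Cfsg.Agent.Lib.OL5.GT4
import Cfsg.Agent.Lib.OL5.GC
import Cfsg.Agent.Lib.OL5.BV
import Cfsg.Agent.Lib.OL5.BC1
import Cfsg.Agent.Lib.OL5.BG4
import Cfsg.Agent.Lib.OL5.BA

/-! Olsson's bound for 2-blocks of defect at most five. -/

set_option autoImplicit false
set_option linter.style.haveILetI false

namespace OL5

open Cfsg H85 K44
open H86 (Cen)
open Subgroup (center)

theorem main_pow {j : ℕ} (h : 2 ^ j ≤ 32) :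
    2 ^ j = 1 ∨ 2 ^ j = 2 ∨ 2 ^ j = 4 ∨ 2 ^ j = 8 ∨ 2 ^ j = 16 ∨ 2 ^ j = 32 := by
  have h1 : j ≤ 5 := (Nat.pow_le_pow_iff_right (a := 2) (by norm_num)).1 h
  interval_cases j <;> simp

theorem main_card {D : Type*} [Group D] [Finite D] (hD : IsPGroup 2 D) (hc : Nat.card D ≤ 32)
    (H : Subgroup D) : (Nat.card H = 1 ∨ Nat.card H = 2 ∨ Nat.card H = 4 ∨ Nat.card H = 8 ∨
      Nat.card H = 16 ∨ Nat.card H = 32) ∧ (H.index = 1 ∨ H.index = 2 ∨ H.index = 4 ∨ H.index = 8 ∨
      H.index = 16 ∨ H.index = 32) := by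
  obtain ⟨i, hi⟩ := IsPGroup.iff_card.1 (hD.to_subgroup H)
  obtain ⟨j, hj⟩ := hD.index H
  have h1 := (Subgroup.card_le_card_group H).trans hc
  have h2 := (Nat.le_of_dvd Nat.card_pos H.index_dvd_card).trans hc
  rw [hi] at h1 ⊢
  rw [hj] at h2 ⊢
  exact ⟨main_pow h1, main_pow h2⟩

theorem classify {D : Type*} [Group D] [Finite D] (hD : IsPGroup 2 D) (hc : Nat.card D ≤ 32) :
    (∀ x y : D, x * y = y * x) ∨ Easy D ∨ (∃ (k : ℕ) (a b t : D), AVc k a b t) ∨ C1 D ∨ G4 D := by
  by_cases hn : ∀ x y : D, x * y = y * x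
  · exact .inl hn
  obtain ⟨h1, h2⟩ := four_le_index_center hD hn
  obtain ⟨h3, h4⟩ := main_card hD hc (commutator D)
  obtain ⟨h5, h6⟩ := main_card hD hc (center D)
  have h7 := (commutator D).card_mul_index
  have h8 := (center D).card_mul_index
  have h9 : Nat.card (commutator D) ≠ 1 := fun h => hn fun x y => by
    have := Subgroup.commutator_mem_commutator (Subgroup.mem_top x) (Subgroup.mem_top y)
    rw [← commutator_def, Subgroup.card_eq_one.1 h, Subgroup.mem_bot] at this
    exact commutatorElement_eq_one_iff_mul_comm.1 this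
  by_cases h10 : Nat.card (commutator D) = 2
  · rcases gt_two hD hc h10 with h | h
    · exact .inr (.inr (.inr (.inl h)))
    · exact .inr (.inl h)
  have h11 : 4 ≤ Nat.card (commutator D) := by omega
  by_cases h12 : (commutator D).index = 4
  · exact .inr (.inr (.inl (gt_max hD (by rw [← h7, h12]; omega) h12)))
  have h13 : 8 ≤ (commutator D).index := by omega
  have h14 : Nat.card (commutator D) = 4 := by nlinarith
  have h15 : Nat.card D = 32 := by rw [h14] at h7; omega
  have h16 : (center D).index ≠ 4 := fun h => h10 (card_comm_of_index_center hD h)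
  have h17 : Nat.card (center D) ≠ 1 := fun h => by
    haveI : Nontrivial D := Finite.one_lt_card_iff_nontrivial.1 (by omega)
    haveI := hD.center_nontrivial
    have := Finite.one_lt_card (α := center D)
    omega
  have h18 : 8 ≤ (center D).index := by omega
  have h19 : Nat.card (center D) ≤ 4 := by nlinarith
  by_cases h20 : Nat.card (center D) = 2
  · exact .inr (.inl (gt_three h15 h14 h20))
  have h21 : Nat.card (center D) = 4 := by omega
  by_cases h22 : commutator D = center D
  · exact .inr (.inr (.inr (.inr ⟨h15, h22, h21⟩)))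
  rcases gt_four h15 h14 h21 h22 with h | h
  · exact .inr (.inl h)
  · exact .inr (.inr (.inl h))

theorem k0_le_index {G : Type*} [Group G] [Finite G] {M : Ideal AlgInt} (hM : IsPModular 2 M)
    {B : Set (IrrCharacter G)} (hB : IsPBlock M B) {D : Subgroup G} (hD : IsDefectGroup 2 M B D)
    (hc : Nat.card D ≤ 32) : k0 B ≤ (commutator D).index := by
  haveI := H33.isMaximal_of hM
  letI := Fintype.ofFinite G
  obtain ⟨e, h⟩ := H85.exists_mp hM hB hD
  have h7 := (commutator D).card_mul_index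
  rcases classify h.pgrp hc with hab | hE | ⟨k, a, b, t, q⟩ | h1 | h1
  · have h2 : commutator D = ⊥ := by
      rw [commutator_eq_bot_iff_center_eq_top, eq_top_iff]
      exact fun x _ => Subgroup.mem_center_iff.2 fun y => hab y x
    rw [h2, Subgroup.index_bot]
    exact k0_le_of_ab h (fun x hx => H86.mem_Cen.2 fun y hy =>
      congrArg Subtype.val (hab ⟨y, hy⟩ ⟨x, hx⟩)) hc
  · exact k0_le_of_easy h hE
  · exact k0_le_of_avc h q
  · obtain ⟨u, z, q⟩ := c1_data h.pgrp h1
    have := k0_le_of_c1 h hc q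
    rw [h1.1] at h7
    omega
  · obtain ⟨u, q⟩ := g4_data h1
    have := k0_le_of_g4 h q
    have h2 : Nat.card (commutator D) = 4 := by rw [h1.2.1]; exact h1.2.2
    rw [h2, h1.1] at h7
    omega

end OL5
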